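import Cfsg.Agent.Lib.SpO.Ly.XDefs

set_option autoImplicit false
set_option maxRecDepth 100000
set_option Elab.async false
set_option linter.unusedSectionVars false

namespace Cfsg.Agent.SpO.Ly
open Cfsg.Agent.CG Cfsg.Agent.SpO

theorem c0 : chkDef 20 (appB tabs CG.G25.t49 0xfffff) 49 (slp 49) 0 19530 = true := by decide +kernel
theorem c1 : chkDef 20 (appB tabs CG.G25.t49 0xfffff) 50 (slp 50) 0 19530 = true := by decide +kernel
theorem c2 : chkDef 20 (appB tabs CG.G25.t49 0xfffff) 51 (slp 51) 0 19530 = true := by decide +kernel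
theorem c3 : chkDef 20 (appB tabs CG.G25.t49 0xfffff) 52 (slp 52) 0 19530 = true := by decide +kernel
theorem c4 : chkDef 20 (appB tabs CG.G25.t49 0xfffff) 53 (slp 53) 0 19530 = true := by decide +kernel
theorem c5 : chkDef 20 (appB tabs CG.G25.t49 0xfffff) 54 (slp 54) 0 19530 = true := by decide +kernel
theorem c6 : chkDef 20 (appB tabs CG.G25.t49 0xfffff) 55 (slp 55) 0 19530 = true := by decide +kernel
theorem c7 : chkDef 20 (appB tabs CG.G25.t49 0xfffff) 56 (slp 56) 0 19530 = true := by decide +kernel
theorem c8 : chkDef 20 (appB tabs CG.G25.t49 0xfffff) 57 (slp 57) 0 19530 = true := by decide +kernel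
theorem c9 : chkDef 20 (appB tabs CG.G25.t49 0xfffff) 58 (slp 58) 0 19530 = true := by decide +kernel
theorem c10 : chkDef 20 (appB tabs CG.G25.t49 0xfffff) 59 (slp 59) 0 19530 = true := by decide +kernel
theorem c11 : chkDef 20 (appB tabs CG.G25.t49 0xfffff) 60 (slp 60) 0 19530 = true := by decide +kernel
theorem c12 : chkDef 20 (appB tabs CG.G25.t49 0xfffff) 61 (slp 61) 0 19530 = true := by decide +kernel
theorem c13 : chkDef 20 (appB tabs CG.G25.t49 0xfffff) 62 (slp 62) 0 19530 = true := by decide +kernel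
theorem c14 : chkDef 20 (appB tabs CG.G25.t49 0xfffff) 63 (slp 63) 0 19530 = true := by decide +kernel
theorem c15 : chkDef 20 (appB tabs CG.G25.t49 0xfffff) 64 (slp 64) 0 19530 = true := by decide +kernel
theorem c16 : chkDef 20 (appB tabs CG.G25.t49 0xfffff) 65 (slp 65) 0 19530 = true := by decide +kernel
theorem c17 : chkDef 20 (appB tabs CG.G25.t49 0xfffff) 66 (slp 66) 0 19530 = true := by decide +kernel
theorem c18 : chkDef 20 (appB tabs CG.G25.t49 0xfffff) 67 (slp 67) 0 19530 = true := by decide +kernel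
theorem c19 : chkDef 20 (appB tabs CG.G25.t49 0xfffff) 68 (slp 68) 0 19530 = true := by decide +kernel
theorem c20 : chkDef 20 (appB tabs CG.G25.t49 0xfffff) 69 (slp 69) 0 19530 = true := by decide +kernel
theorem c21 : chkDef 20 (appB tabs CG.G25.t49 0xfffff) 70 (slp 70) 0 19530 = true := by decide +kernel
theorem c22 : chkDef 20 (appB tabs CG.G25.t49 0xfffff) 71 (slp 71) 0 19530 = true := by decide +kernel
theorem c23 : chkDef 20 (appB tabs CG.G25.t49 0xfffff) 72 (slp 72) 0 19530 = true := by decide +kernel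
theorem c24 : chkDef 20 (appB tabs CG.G25.t49 0xfffff) 73 (slp 73) 0 19530 = true := by decide +kernel
theorem c25 : chkDef 20 (appB tabs CG.G25.t49 0xfffff) 74 (slp 74) 0 19530 = true := by decide +kernel
theorem c26 : chkDef 20 (appB tabs CG.G25.t49 0xfffff) 75 (slp 75) 0 19530 = true := by decide +kernel
theorem c27 : chkDef 20 (appB tabs CG.G25.t49 0xfffff) 76 (slp 76) 0 19530 = true := by decide +kernel
theorem c28 : chkDef 20 (appB tabs CG.G25.t49 0xfffff) 77 (slp 77) 0 19530 = true := by decide +kernel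
theorem c29 : chkDef 20 (appB tabs CG.G25.t49 0xfffff) 78 (slp 78) 0 19530 = true := by decide +kernel
theorem c30 : chkDef 20 (appB tabs CG.G25.t49 0xfffff) 79 (slp 79) 0 19530 = true := by decide +kernel
theorem c31 : chkDef 20 (appB tabs CG.G25.t49 0xfffff) 80 (slp 80) 0 19530 = true := by decide +kernel
theorem c32 : chkDef 20 (appB tabs CG.G25.t49 0xfffff) 81 (slp 81) 0 19530 = true := by decide +kernel
theorem c33 : chkDef 20 (appB tabs CG.G25.t49 0xfffff) 82 (slp 82) 0 19530 = true := by decide +kernel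
theorem c34 : chkDef 20 (appB tabs CG.G25.t49 0xfffff) 83 (slp 83) 0 19530 = true := by decide +kernel
theorem c35 : chkDef 20 (appB tabs CG.G25.t49 0xfffff) 84 (slp 84) 0 19530 = true := by decide +kernel
theorem c36 : chkDef 20 (appB tabs CG.G25.t49 0xfffff) 85 (slp 85) 0 19530 = true := by decide +kernel
theorem c37 : chkDef 20 (appB tabs CG.G25.t49 0xfffff) 86 (slp 86) 0 19530 = true := by decide +kernel
theorem c38 : chkDef 20 (appB tabs CG.G25.t49 0xfffff) 87 (slp 87) 0 19530 = true := by decide +kernel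
theorem c39 : chkDef 20 (appB tabs CG.G25.t49 0xfffff) 88 (slp 88) 0 19530 = true := by decide +kernel
theorem c40 : chkDef 20 (appB tabs CG.G25.t49 0xfffff) 89 (slp 89) 0 19530 = true := by decide +kernel
theorem c41 : chkDef 20 (appB tabs CG.G25.t49 0xfffff) 90 (slp 90) 0 19530 = true := by decide +kernel
theorem c42 : chkDef 20 (appB tabs CG.G25.t49 0xfffff) 91 (slp 91) 0 19530 = true := by decide +kernel
theorem c43 : chkDef 20 (appB tabs CG.G25.t49 0xfffff) 92 (slp 92) 0 19530 = true := by decide +kernel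
theorem c44 : chkDef 20 (appB tabs CG.G25.t49 0xfffff) 93 (slp 93) 0 19530 = true := by decide +kernel
theorem c45 : chkDef 20 (appB tabs CG.G25.t49 0xfffff) 94 (slp 94) 0 19530 = true := by decide +kernel
theorem c46 : chkDef 20 (appB tabs CG.G25.t49 0xfffff) 95 (slp 95) 0 19530 = true := by decide +kernel
theorem c47 : chkDef 20 (appB tabs CG.G25.t49 0xfffff) 96 (slp 96) 0 19530 = true := by decide +kernel
theorem c48 : chkDef 20 (appB tabs CG.G25.t49 0xfffff) 97 (slp 97) 0 19530 = true := by decide +kernel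
theorem c49 : chkDef 20 (appB tabs CG.G25.t49 0xfffff) 98 (slp 98) 0 19530 = true := by decide +kernel
theorem c50 : chkDef 20 (appB tabs CG.G25.t49 0xfffff) 99 (slp 99) 0 19530 = true := by decide +kernel
theorem c51 : chkDef 20 (appB tabs CG.G25.t49 0xfffff) 100 (slp 100) 0 19530 = true := by decide +kernel
theorem c52 : chkDef 20 (appB tabs CG.G25.t49 0xfffff) 101 (slp 101) 0 19530 = true := by decide +kernel
theorem c53 : chkDef 20 (appB tabs CG.G25.t49 0xfffff) 102 (slp 102) 0 19530 = true := by decide +kernel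
theorem c54 : chkDef 20 (appB tabs CG.G25.t49 0xfffff) 103 (slp 103) 0 19530 = true := by decide +kernel
theorem c55 : chkDef 20 (appB tabs CG.G25.t49 0xfffff) 104 (slp 104) 0 19530 = true := by decide +kernel
theorem c56 : chkDef 20 (appB tabs CG.G25.t49 0xfffff) 105 (slp 105) 0 19530 = true := by decide +kernel
theorem c57 : chkDef 20 (appB tabs CG.G25.t49 0xfffff) 106 (slp 106) 0 19530 = true := by decide +kernel
theorem c58 : chkDef 20 (appB tabs CG.G25.t49 0xfffff) 107 (slp 107) 0 19530 = true := by decide +kernel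
theorem c59 : chkDef 20 (appB tabs CG.G25.t49 0xfffff) 108 (slp 108) 0 19530 = true := by decide +kernel
theorem c60 : chkDef 20 (appB tabs CG.G25.t49 0xfffff) 109 (slp 109) 0 19530 = true := by decide +kernel
theorem c61 : chkDef 20 (appB tabs CG.G25.t49 0xfffff) 110 (slp 110) 0 19530 = true := by decide +kernel
theorem c62 : chkDef 20 (appB tabs CG.G25.t49 0xfffff) 111 (slp 111) 0 19530 = true := by decide +kernel
theorem c63 : chkDef 20 (appB tabs CG.G25.t49 0xfffff) 112 (slp 112) 0 19530 = true := by decide +kernel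
theorem c64 : chkDef 20 (appB tabs CG.G25.t49 0xfffff) 113 (slp 113) 0 19530 = true := by decide +kernel
theorem c65 : chkDef 20 (appB tabs CG.G25.t49 0xfffff) 114 (slp 114) 0 19530 = true := by decide +kernel
theorem c66 : chkDef 20 (appB tabs CG.G25.t49 0xfffff) 115 (slp 115) 0 19530 = true := by decide +kernel
theorem c67 : chkDef 20 (appB tabs CG.G25.t49 0xfffff) 116 (slp 116) 0 19530 = true := by decide +kernel
theorem c68 : chkDef 20 (appB tabs CG.G25.t49 0xfffff) 117 (slp 117) 0 19530 = true := by decide +kernel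
theorem c69 : chkDef 20 (appB tabs CG.G25.t49 0xfffff) 118 (slp 118) 0 19530 = true := by decide +kernel
theorem c70 : chkDef 20 (appB tabs CG.G25.t49 0xfffff) 119 (slp 119) 0 19530 = true := by decide +kernel
theorem c71 : chkDef 20 (appB tabs CG.G25.t49 0xfffff) 120 (slp 120) 0 19530 = true := by decide +kernel
theorem c72 : chkDef 20 (appB tabs CG.G25.t49 0xfffff) 121 (slp 121) 0 19530 = true := by decide +kernel
theorem c73 : chkDef 20 (appB tabs CG.G25.t49 0xfffff) 122 (slp 122) 0 19530 = true := by decide +kernel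
theorem c74 : chkDef 20 (appB tabs CG.G25.t49 0xfffff) 123 (slp 123) 0 19530 = true := by decide +kernel
theorem c75 : chkDef 20 (appB tabs CG.G25.t49 0xfffff) 124 (slp 124) 0 19530 = true := by decide +kernel
theorem c76 : chkDef 20 (appB tabs CG.G25.t49 0xfffff) 125 (slp 125) 0 19530 = true := by decide +kernel
theorem c77 : chkDef 20 (appB tabs CG.G25.t49 0xfffff) 126 (slp 126) 0 19530 = true := by decide +kernel
theorem c78 : chkDef 20 (appB tabs CG.G25.t49 0xfffff) 127 (slp 127) 0 19530 = true := by decide +kernel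
theorem c79 : chkDef 20 (appB tabs CG.G25.t49 0xfffff) 128 (slp 128) 0 19530 = true := by decide +kernel
theorem c80 : chkDef 20 (appB tabs CG.G25.t49 0xfffff) 129 (slp 129) 0 19530 = true := by decide +kernel
theorem c81 : chkDef 20 (appB tabs CG.G25.t49 0xfffff) 130 (slp 130) 0 19530 = true := by decide +kernel
theorem c82 : chkDef 20 (appB tabs CG.G25.t49 0xfffff) 131 (slp 131) 0 19530 = true := by decide +kernel
theorem c83 : chkDef 20 (appB tabs CG.G25.t49 0xfffff) 132 (slp 132) 0 19530 = true := by decide +kernel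
theorem c84 : chkDef 20 (appB tabs CG.G25.t49 0xfffff) 133 (slp 133) 0 19530 = true := by decide +kernel
theorem c85 : chkDef 20 (appB tabs CG.G25.t49 0xfffff) 134 (slp 134) 0 19530 = true := by decide +kernel
theorem c86 : chkDef 20 (appB tabs CG.G25.t49 0xfffff) 135 (slp 135) 0 19530 = true := by decide +kernel
theorem c87 : chkDef 20 (appB tabs CG.G25.t49 0xfffff) 136 (slp 136) 0 19530 = true := by decide +kernel
theorem c88 : chkDef 20 (appB tabs CG.G25.t49 0xfffff) 137 (slp 137) 0 19530 = true := by decide +kernel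
theorem c89 : chkDef 20 (appB tabs CG.G25.t49 0xfffff) 138 (slp 138) 0 19530 = true := by decide +kernel
theorem c90 : chkDef 20 (appB tabs CG.G25.t49 0xfffff) 139 (slp 139) 0 19530 = true := by decide +kernel
theorem c91 : chkDef 20 (appB tabs CG.G25.t49 0xfffff) 140 (slp 140) 0 19530 = true := by decide +kernel
theorem c92 : chkDef 20 (appB tabs CG.G25.t49 0xfffff) 141 (slp 141) 0 19530 = true := by decide +kernel
theorem c93 : chkDef 20 (appB tabs CG.G25.t49 0xfffff) 142 (slp 142) 0 19530 = true := by decide +kernel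
theorem c94 : chkDef 20 (appB tabs CG.G25.t49 0xfffff) 143 (slp 143) 0 19530 = true := by decide +kernel
theorem c95 : chkDef 20 (appB tabs CG.G25.t49 0xfffff) 144 (slp 144) 0 19530 = true := by decide +kernel
theorem c96 : chkDef 20 (appB tabs CG.G25.t49 0xfffff) 145 (slp 145) 0 19530 = true := by decide +kernel
theorem c97 : chkDef 20 (appB tabs CG.G25.t49 0xfffff) 146 (slp 146) 0 19530 = true := by decide +kernel
theorem c98 : chkDef 20 (appB tabs CG.G25.t49 0xfffff) 147 (slp 147) 0 19530 = true := by decide +kernel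
theorem c99 : chkDef 20 (appB tabs CG.G25.t49 0xfffff) 148 (slp 148) 0 19530 = true := by decide +kernel
theorem c100 : chkDef 20 (appB tabs CG.G25.t49 0xfffff) 149 (slp 149) 0 19530 = true := by decide +kernel
theorem c101 : chkDef 20 (appB tabs CG.G25.t49 0xfffff) 150 (slp 150) 0 19530 = true := by decide +kernel
theorem c102 : chkDef 20 (appB tabs CG.G25.t49 0xfffff) 151 (slp 151) 0 19530 = true := by decide +kernel
theorem c103 : chkDef 20 (appB tabs CG.G25.t49 0xfffff) 152 (slp 152) 0 19530 = true := by decide +kernel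
theorem c104 : chkDef 20 (appB tabs CG.G25.t49 0xfffff) 153 (slp 153) 0 19530 = true := by decide +kernel
theorem c105 : chkDef 20 (appB tabs CG.G25.t49 0xfffff) 154 (slp 154) 0 19530 = true := by decide +kernel
theorem c106 : chkDef 20 (appB tabs CG.G25.t49 0xfffff) 155 (slp 155) 0 19530 = true := by decide +kernel
theorem c107 : chkDef 20 (appB tabs CG.G25.t49 0xfffff) 156 (slp 156) 0 19530 = true := by decide +kernel
theorem c108 : chkDef 20 (appB tabs CG.G25.t49 0xfffff) 157 (slp 157) 0 19530 = true := by decide +kernel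
theorem c109 : chkDef 20 (appB tabs CG.G25.t49 0xfffff) 158 (slp 158) 0 19530 = true := by decide +kernel
theorem c110 : chkDef 20 (appB tabs CG.G25.t49 0xfffff) 159 (slp 159) 0 19530 = true := by decide +kernel
theorem c111 : chkDef 20 (appB tabs CG.G25.t49 0xfffff) 160 (false, []) 0 19530 = true := by decide +kernel

end Cfsg.Agent.SpO.Ly
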