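import Cfsg.Agent.Lib.SpO.Ly.XDefs

set_option autoImplicit false
set_option maxRecDepth 100000
set_option Elab.async false
set_option linter.unusedSectionVars false

namespace Cfsg.Agent.SpO.Ly
open Cfsg.Agent.CG Cfsg.Agent.SpO

theorem c112 : mc0.chk (appB tabs CG.G25.t49 0xfffff) 1 19529 = true := by decide +kernel
theorem c113 : mc1.chk (appB tabs CG.G25.t49 0xfffff) 1 3124 = true := by decide +kernel
theorem c114 : mc2.chk (appB tabs CG.G25.t49 0xfffff) 1 95 = true := by decide +kernel
theorem c115 : okcb 19530 20 (bases mc) = true := by decide +kernel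
theorem c116 : headAll (appB tabs CG.G25.t49 0xfffff) mc [] = true := by decide +kernel
theorem c117 : mf0.chk (appB tabs CG.G25.t49 0xfffff) 1 19529 = true := by decide +kernel
theorem c118 : mf1.chk (appB tabs CG.G25.t49 0xfffff) 1 3 = true := by decide +kernel
theorem c119 : mf2.chk (appB tabs CG.G25.t49 0xfffff) 1 2 = true := by decide +kernel
theorem c120 : mf3.chk (appB tabs CG.G25.t49 0xfffff) 1 1 = true := by decide +kernel
theorem c121 : mf4.chk (appB tabs CG.G25.t49 0xfffff) 1 624 = true := by decide +kernel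
theorem c122 : mf5.chk (appB tabs CG.G25.t49 0xfffff) 1 19 = true := by decide +kernel
theorem c123 : okcb 19530 20 (bases mf) = true := by decide +kernel
theorem c124 : headAll (appB tabs CG.G25.t49 0xfffff) mf [] = true := by decide +kernel
theorem c125 : ms0.chk (appB tabs CG.G25.t49 0xfffff) 1 624 = true := by decide +kernel
theorem c126 : ms1.chk (appB tabs CG.G25.t49 0xfffff) 1 24 = true := by decide +kernel
theorem c127 : okcb 19530 20 (bases ms) = true := by decide +kernel
theorem c128 : headAll (appB tabs CG.G25.t49 0xfffff) ms [] = true := by decide +kernel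
theorem c129 : cc0.chk (appB tabs CG.G25.t49 0xfffff) 1 18899 = true := by decide +kernel
theorem c130 : cc1.chk (appB tabs CG.G25.t49 0xfffff) 1 19 = true := by decide +kernel
theorem c131 : okcb 19530 20 (bases cc) = true := by decide +kernel
theorem c132 : headAll (appB tabs CG.G25.t49 0xfffff) cc [] = true := by decide +kernel
theorem c133 : trChk (appB tabs CG.G25.t49 0xfffff) mc0 [mc1, mc2] mcB (diagQ pQ) (diagQ pR) pF 0 1986 = true := by decide +kernel
theorem c134 : trChk (appB tabs CG.G25.t49 0xfffff) mc0 [mc1, mc2] mcB (diagQ pQ) (diagQ pR) pF 1986 1986 = true := by decide +kernel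
theorem c135 : trChk (appB tabs CG.G25.t49 0xfffff) mc0 [mc1, mc2] mcB (diagQ pQ) (diagQ pR) pF 3972 1986 = true := by decide +kernel
theorem c136 : trChk (appB tabs CG.G25.t49 0xfffff) mc0 [mc1, mc2] mcB (diagQ pQ) (diagQ pR) pF 5958 1986 = true := by decide +kernel
theorem c137 : trChk (appB tabs CG.G25.t49 0xfffff) mc0 [mc1, mc2] mcB (diagQ pQ) (diagQ pR) pF 7944 1986 = true := by decide +kernel
theorem c138 : trChk (appB tabs CG.G25.t49 0xfffff) mc0 [mc1, mc2] mcB (diagQ pQ) (diagQ pR) pF 9930 1986 = true := by decide +kernel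
theorem c139 : trChk (appB tabs CG.G25.t49 0xfffff) mc0 [mc1, mc2] mcB (diagQ pQ) (diagQ pR) pF 11916 1986 = true := by decide +kernel
theorem c140 : trChk (appB tabs CG.G25.t49 0xfffff) mc0 [mc1, mc2] mcB (diagQ pQ) (diagQ pR) pF 13902 1986 = true := by decide +kernel
theorem c141 : trChk (appB tabs CG.G25.t49 0xfffff) mc0 [mc1, mc2] mcB (diagQ pQ) (diagQ pR) pF 15888 1986 = true := by decide +kernel
theorem c142 : trChk (appB tabs CG.G25.t49 0xfffff) mc0 [mc1, mc2] mcB (diagQ pQ) (diagQ pR) pF 17874 1656 = true := by decide +kernel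
theorem c143 : classChk (appB tabs CG.G25.t49 0xfffff) bs 130 3 150 [74,3] pS pF pU = true := by decide +kernel
theorem c144 : powChk (appB tabs CG.G25.t49 0xfffff) bs 128 7 aK nK = true := by decide +kernel
theorem c145 : en.chk (appB tabs CG.G25.t49 0xfffff) tst 0 5032 0 140341688286663820 = true := by decide +kernel
theorem c146 : en.chk (appB tabs CG.G25.t49 0xfffff) tst 5032 5032 140341688286663820 282662465354082720 = true := by decide +kernel
theorem c147 : en.chk (appB tabs CG.G25.t49 0xfffff) tst 10064 5032 282662465354082720 418935949523822180 = true := by decide +kernel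
theorem c148 : en.chk (appB tabs CG.G25.t49 0xfffff) tst 15096 404 418935949523822180 429425571932451041 = true := by decide +kernel
theorem c149 : commAll (appB tabs CG.G25.t49 0xfffff) bs 130 cc = true := by decide +kernel
theorem c150 : relChk (appB tabs CG.G25.t49 0xfffff) bs 128 130 rT = true := by decide +kernel
theorem c151 : trChk (appB tabs CG.G25.t49 0xfffff) mc0 [mc1, mc2] mcB (diagQ vQ) (diagQ vR) vF 0 1986 = true := by decide +kernel
theorem c152 : trChk (appB tabs CG.G25.t49 0xfffff) mc0 [mc1, mc2] mcB (diagQ vQ) (diagQ vR) vF 1986 1986 = true := by decide +kernel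
theorem c153 : trChk (appB tabs CG.G25.t49 0xfffff) mc0 [mc1, mc2] mcB (diagQ vQ) (diagQ vR) vF 3972 1986 = true := by decide +kernel
theorem c154 : trChk (appB tabs CG.G25.t49 0xfffff) mc0 [mc1, mc2] mcB (diagQ vQ) (diagQ vR) vF 5958 1986 = true := by decide +kernel
theorem c155 : trChk (appB tabs CG.G25.t49 0xfffff) mc0 [mc1, mc2] mcB (diagQ vQ) (diagQ vR) vF 7944 1986 = true := by decide +kernel
theorem c156 : trChk (appB tabs CG.G25.t49 0xfffff) mc0 [mc1, mc2] mcB (diagQ vQ) (diagQ vR) vF 9930 1986 = true := by decide +kernel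
theorem c157 : trChk (appB tabs CG.G25.t49 0xfffff) mc0 [mc1, mc2] mcB (diagQ vQ) (diagQ vR) vF 11916 1986 = true := by decide +kernel
theorem c158 : trChk (appB tabs CG.G25.t49 0xfffff) mc0 [mc1, mc2] mcB (diagQ vQ) (diagQ vR) vF 13902 1986 = true := by decide +kernel
theorem c159 : trChk (appB tabs CG.G25.t49 0xfffff) mc0 [mc1, mc2] mcB (diagQ vQ) (diagQ vR) vF 15888 1986 = true := by decide +kernel
theorem c160 : trChk (appB tabs CG.G25.t49 0xfffff) mc0 [mc1, mc2] mcB (diagQ vQ) (diagQ vR) vF 17874 1656 = true := by decide +kernel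
theorem c161 : treeAll (appB tabs CG.G25.t49 0xfffff) f1S f1X f1F 20 0 19530 = true := by decide +kernel

end Cfsg.Agent.SpO.Ly
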