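import Cfsg.Agent.Lib.SpO.Ly.XDefs

set_option autoImplicit false
set_option maxRecDepth 100000
set_option Elab.async false
set_option linter.unusedSectionVars false

namespace Cfsg.Agent.SpO.Ly
open Cfsg.Agent.CG Cfsg.Agent.SpO

theorem c162 : treeAll (appB tabs CG.G25.t49 0xfffff) f2S f2X f2F 20 0 19530 = true := by decide +kernel
theorem c163 : treeAll (appB tabs CG.G25.t49 0xfffff) f3S f3X f3F 20 0 19530 = true := by decide +kernel
theorem c164 : treeAll (appB tabs CG.G25.t49 0xfffff) f4S f4X f4F 20 0 19530 = true := by decide +kernel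
theorem c165 : fixAll (appB tabs CG.G25.t49 0xfffff) fxS fxX 20 0 19530 = true := by decide +kernel
theorem c166 : pcW app bs0 wA 5 sS = true := by decide +kernel
theorem c167 : band (allL (fun a => normW app bs0 wB g2S [a]) sS) (commW app bs0 wB g2S sS sS) = true := by decide +kernel
theorem c168 : band (allL (fun a => normW app bs0 wC tS [a]) sS) (band (allL (fun a => normW app bs0 wC tS [a]) g2S) (commW app bs0 wC tS g2S sS)) = true := by decide +kernel
theorem c169 : band (band (allL (fun a => normW app bs0 wD zS [a]) q1) (commW app bs0 wD zS q1 q1)) (band (commW app bs0 wD [] zS q1) (commW app bs0 wD [] tS tS)) = true := by decide +kernel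
theorem c170 : band (band (normW app bs0 wE q2 [8]) (normW app bs0 wE q1 [g1])) (band (inW app bs0 wE q1 (repL 4 g1) []) (band (inW app bs0 wE q1 (powL 3 [s1, g1]) []) (inW app bs0 wE q1 [g1, g1, s1] [s1, g1, g1]))) = true := by decide +kernel
theorem c171 : band (allL (fun a => normW app bs0 wF zS [a]) k1) (allL (fun a => normW app bs0 wF tS [a]) k4) = true := by decide +kernel

end Cfsg.Agent.SpO.Ly
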