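import Cfsg.Agent.Lib.SpO.Ly.MD
import Cfsg.Agent.Lib.SpO.Pc
import Cfsg.Agent.Lib.DC.LyT.Defs

set_option autoImplicit false
set_option maxRecDepth 100000
set_option Elab.async false

namespace Cfsg.Agent.SpO.Ly.M
open Cfsg.Agent.CG Cfsg.Agent.Id

noncomputable def steps : List (ℕ × ℕ) := [(1, 3), (6, 5), (13, 6)]
noncomputable abbrev mw : List ℕ → List ℕ → List ℕ := mapw 12 5 111 steps tabs
noncomputable abbrev bas : List ℕ := basp (2 ^ 12) 1 111
noncomputable def I : List ℕ := [1,0,3,2,5,4,7,6,8,10,9,12,11,14,13,16,15,18,17]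
noncomputable abbrev one (v : List ℕ) : Bool := oneB mw bas v
noncomputable abbrev iw (v : List ℕ) : List ℕ := ivw (nth I 19) v
noncomputable abbrev sub (v : List ℕ) : Bool := subB mw (2 ^ 12) 7 v
noncomputable abbrev cj (c v : List ℕ) : List ℕ := app2 c (app2 v (iw c))
noncomputable def sx (a : ℕ) : List ℕ := (sxL.lookup a).getD []
noncomputable def pw (i : ℕ) : List ℕ := nth [[],
  [17],
  [2,17],
  [2,2,17],
  [2,2,2,17],
  [2,2,2,2,17]] [] i

theorem kT : tabsOK (2 ^ 12) 5 111 tabs = true := by decide +kernel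
theorem kS : redOK 12 5 111 steps = true := by decide +kernel
theorem kI : invB mw bas I 19 = true := by decide +kernel
theorem k0 : allL one [[0,1],
    [2,3],
    [4,5],
    [6,7],
    [8,8],
    [9,10],
    [11,12],
    [13,14],
    [15,16],
    [0,0,0,0,0,0,0,0],
    [2,2,2,2,2],
    [0,2,0,2,0,2,0,2],
    [1,1,3,0,0,2],
    [1,3,0,2,1,3,0,2,1,3,0,2]] = true := by decide +kernel
theorem k1 : allL one [[9,1,5,0],
    [11,3,5,2],
    [13,2,5,3],
    [15,10,5,9,4],
    [4,4,4,4,4],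
    [15,15,15,15,15],
    [5,16,4,15],
    [10,16,9,15],
    [12,16,11,15],
    [14,16,13,15],
    [5,12,4,11,15,15],
    [5,14,4,13,16,16],
    [10,12,9,11,15]] = true := by decide +kernel
theorem k2 : allL one [[10,14,9,13],
    [12,14,11,13,15],
    [1,9,0,4,4],
    [1,11,0,14,5,11,11],
    [1,13,0,14,5,14,11,9,5],
    [1,15,0,16,16],
    [3,9,2,13,4,13,12,10],
    [3,11,2,11,11,14,5,5],
    [3,15,2,16]] = true := by decide +kernel
theorem k3 : allL one [[8,7,5,7,2,1,3,5,7,1,5,0,5,1,4,0,2,2],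
    [8,4,8,4,3,12,3],
    [8,11,8,0,13,4,10,1,3,3],
    [8,13,8,14,11,3,3],
    [8,15,8,13,5,11,5]] = true := by decide +kernel
theorem k4 : allL one [[8,0,0,8,13,16,5,1,2,1,3,3,1],
    [8,2,8,13,13,11,5],
    [8,0,2,2,0,3,0,8,13,16,5,1,1],
    [8,9,8,10,8,9,14,0,11,0,0,0]] = true := by decide +kernel
theorem k5 : allL one [[6,8,3,9,1,8,1,8,1,15,13,4,2,0,3,3,1],
    [6,6,1,1,1,1],
    [3,7,2,6],
    [7,0,6,1,1,1],
    [6,15,6,15,6,15,6,15,6,15],
    [6,15,6,16,6,15,1,1]] = true := by decide +kernel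
theorem kR : allL one G25.tcR = true := allL_cast (allL_app k0 (allL_app k1 (allL_app k2 (allL_app k3 (allL_app k4 k5))))) (by decide +kernel)
theorem k6 : allL one [[18,4,17,1,3,4,1,2,4,3,0,2,0],
    [18,9,17,3,5,3,0,5,1,2,2],
    [18,11,17,1,3,1,5,0,2,0],
    [18,13,17,3,1,2,5,3,0,2],
    [18,15,17,4,2,2,5,1,3,5,2,0,3,3]] = true := by decide +kernel
theorem k7 : allL one [[18,0,17,0,0,0],
    [18,2,0,3,17,0,0,2,0,3],
    [18,2,2,0,3,3,17,0,2,2,1,3,3,1],
    [17,17,1,1],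
    [3,3,0,2,2,17,3,3,0,2,2,17,3,3,0,2,2,17,0,0]] = true := by decide +kernel
theorem k8 : allL one [[5,7,1,5,1,2,5,7,17,1,6,3,5,1,2,5,7,2,5,3,1,5,0,3,0,2,0,3,17,1,5,7,0,5,3,0,5,7,1,5,0,4,3,3,5,3,1,3,3,17]] = true := by decide +kernel
theorem k9 : allL one [[18,7,18,1,5,7,2,1,3,5,7,2,1,3,5,3,0,3,3,0,3,17,6,17,0,2,1,2,2,1,2,2,5,0,4,2,4,3,6,4,3,3,6,4,2,4]] = true := by decide +kernel
theorem k10 : allL one [[17,2,0,3,1,3,3,1,3,4,2,2,4,2,6,4,3,3,6,4,2,4,17,0,3,3,1,4,2,5,2,1,5,5,6,4,0,4,1,4,3,7,18,5,3,5,7,2,2,5,7,3,5,3,3,5,2,0,2,2,0,2,1,3,18,7,0,4,2,4,1,5,7,0,3,1,4,1,3,3,1,2,1]] = true := by decide +kernel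
theorem k11 : allL one [[17,2,6,17,2,2,1,3,1,2,2,5,0,4,1,5,6,5,2,2,1,4,2,18,7,3,18,5,1,4,2,5,7,4,1,4,0,4,3,1,3,1,2]] = true := by decide +kernel
theorem kR' : allL one ((DC.LyT.rels.map Prod.fst).map (List.map (tm 17))) = true := allL_cast (allL_app k6 (allL_app k7 (allL_app k8 (allL_app k9 (allL_app k10 k11))))) (by decide +kernel)
theorem kH : allL (fun a => sub [a]) G25.tcS = true := by decide +kernel
theorem kC : allL (fun c => bnot (sub c)) cwL.tail = true := by decide +kernel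
theorem k12 : allL (fun u => bnot (sub (cj [17] u))) [[3],
    [6],
    [8],
    [6,3],
    [8,6]] = true := by decide +kernel
theorem kF1 : allL (fun u => bnot (sub (cj [17] u))) rL1.tail = true := allL_cast k12 (by decide +kernel)
theorem kK2 : allL (fun q => sub (cj (nth cwL [] 2) q.2)) kL2 = true := by decide +kernel
theorem k13 : allL (fun u => bnot (sub (cj (nth cwL [] 2) (cj u r0)))) [[],
    [3],
    [6],
    [8],
    [8,6],
    [16,6],
    [9,8],
    [16,6,3],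
    [8,5,6],
    [12,5,6],
    [9,8,6]] = true := by decide +kernel
theorem kF2 : allL (fun u => bnot (sub (cj (nth cwL [] 2) (cj u r0)))) rL2 = true := allL_cast k13 (by decide +kernel)
theorem kK3 : allL (fun q => sub (cj (nth cwL [] 3) q.2)) kL3 = true := by decide +kernel
theorem k14 : allL (fun u => bnot (sub (cj (nth cwL [] 3) (cj u r0)))) [[],
    [8],
    [5,6],
    [8,6],
    [5,8],
    [10,8],
    [8,5,6],
    [9,5,6],
    [12,5,6],
    [5,8,6],
    [9,8,6],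
    [5,10,6],
    [4,10,6],
    [11,10,6],
    [9,12,6],
    [14,12,6],
    [9,5,6,3],
    [9,8,6,2]] = true := by decide +kernel
theorem kF3 : allL (fun u => bnot (sub (cj (nth cwL [] 3) (cj u r0)))) rL3 = true := allL_cast k14 (by decide +kernel)
theorem kK4 : allL (fun q => sub (cj (nth cwL [] 4) q.2)) kL4 = true := by decide +kernel
theorem k15 : allL (fun u => bnot (sub (cj (nth cwL [] 4) (cj u r0)))) [[],
    [3],
    [2],
    [8],
    [8,6],
    [12,6],
    [14,6],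
    [16,6],
    [5,8],
    [10,8],
    [9,8],
    [8,6,3],
    [12,6,3],
    [16,6,3],
    [10,8,3],
    [9,8,3],
    [12,6,2],
    [14,6,2],
    [8,5,6],
    [10,5,6],
    [9,5,6],
    [12,5,6],
    [16,5,6],
    [10,8,6],
    [4,10,6],
    [14,12,6],
    [10,7,8],
    [16,5,6,3],
    [14,12,6,2],
    [14,9,5,6]] = true := by decide +kernel
theorem kF4 : allL (fun u => bnot (sub (cj (nth cwL [] 4) (cj u r0)))) rL4 = true := allL_cast k15 (by decide +kernel)
theorem kM : allL (fun q => allLt (fun i => sub (app2 (iw (pw (nth q.2.1 0 i))) (app2 q.1 (pw i)))) 6) m0L = true := by decide +kernel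
theorem kN : allL (fun q => allLt (fun i => eqB mw bas (app2 q.1 (sx (nth [55,57,59] 0 i))) (app2 (substW sx (nth q.2.2 [] i)) q.1)) 3) m0L = true := by decide +kernel

end Cfsg.Agent.SpO.Ly.M
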