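import Cfsg.Agent.Lib.SpO.Ly.C0
import Cfsg.Agent.Lib.SpO.Ly.C1
import Cfsg.Agent.Lib.SpO.Ly.C2
import Cfsg.Agent.Lib.DC.LyG

set_option autoImplicit false
set_option maxRecDepth 100000
set_option Elab.async false
set_option linter.unusedSectionVars false

namespace Cfsg.Agent.SpO.Ly
open Cfsg.Agent.CG Cfsg.Agent.SpO

theorem ext : ExtOK CG.G25.act 19530 20 app 49 160 slp where
  ok_iff _ := Iff.rfl
  old := appB_congr (tabs := CG.G25.tabs) rfl
  defs := allRange_of_allL (l := [49,50,51,52,53,54,55,56,57,58,59,60,61,62,63,64,65,66,67,68,69,70,71,72,73,74,75,76,77,78,79,80,81,82,83,84,85,86,87,88,89,90,91,92,93,94,95,96,97,98,99,100,101,102,103,104,105,106,107,108,109,110,111,112,113,114,115,116,117,118,119,120,121,122,123,124,125,126,127,128,129,130,131,132,133,134,135,136,137,138,139,140,141,142,143,144,145,146,147,148,149,150,151,152,153,154,155,156,157,158,159]) (by decide +kernel) (allL_cons c0 (allL_cons c1 (allL_cons c2 (allL_cons c3 (allL_cons c4 (allL_cons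 c5 (allL_cons c6 (allL_cons c7 (allL_cons c8 (allL_cons c9 (allL_cons c10 (allL_cons c11 (allL_cons c12 (allL_cons c13 (allL_cons c14 (allL_cons c15 (allL_cons c16 (allL_cons c17 (allL_cons c18 (allL_cons c19 (allL_cons c20 (allL_cons c21 (allL_cons c22 (allL_cons c23 (allL_cons c24 (allL_cons c25 (allL_cons c26 (allL_cons c27 (allL_cons c28 (allL_cons c29 (allL_cons c30 (allL_cons c31 (allL_cons c32 (allL_cons c33 (allL_cons c34 (allL_cons c35 (allL_cons c36 (allL_cons c37 (allL_cons c38 (allL_cons c39 (allL_cons c40 (allL_cons c41 (allL_cons c42 (allL_cons c43 (allL_cons c44 (allL_cons c45 (allL_cons c46 (allL_cons c47 (allL_cons c48 (allL_cons c49 (allL_cons c50 (allL_cons c51 (allL_cons c52 (allL_cons c53 (allL_cons c54 (allL_cons c55 (allL_cons c56 (allL_cons c57 (allL_cons c58 (allL_cons c59 (allL_cons c60 (allL_cons c61 (allL_cons c62 (allL_cons c63 (allL_cons c64 (allL_cons c65 (allL_cons c66 (allL_cons c67 (allL_cons c68 (allL_cons c69 (allL_cons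 c70 (allL_cons c71 (allL_cons c72 (allL_cons c73 (allL_cons c74 (allL_cons c75 (allL_cons c76 (allL_cons c77 (allL_cons c78 (allL_cons c79 (allL_cons c80 (allL_cons c81 (allL_cons c82 (allL_cons c83 (allL_cons c84 (allL_cons c85 (allL_cons c86 (allL_cons c87 (allL_cons c88 (allL_cons c89 (allL_cons c90 (allL_cons c91 (allL_cons c92 (allL_cons c93 (allL_cons c94 (allL_cons c95 (allL_cons c96 (allL_cons c97 (allL_cons c98 (allL_cons c99 (allL_cons c100 (allL_cons c101 (allL_cons c102 (allL_cons c103 (allL_cons c104 (allL_cons c105 (allL_cons c106 (allL_cons c107 (allL_cons c108 (allL_cons c109 (allL_cons c110 (allL_nil _))))))))))))))))))))))))))))))))))))))))))))))))))))))))))))))))))))))))))))))))))))))))))))))))))))))))))))))))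
  lt := by decide +kernel
  triv := appB_triv (by decide +kernel)
  trivk := c111

noncomputable def act : Act PG (Fin 19530) := ext.act

theorem hok : ∀ x, act.ok x ↔ okc 19530 20 x := fun _ => Iff.rfl

theorem hsur : ∀ p, ∃ i, i < 19530 ∧ p = act.pt (20 * i) := DC.act_surj CG.G25.tabOK

theorem card : Nat.card PG = 5859000000 := CG.G25.card

theorem base0 : act.IsBase bs0 := ⟨fun b h => CG.G25.base.1 b h, fun g h => CG.G25.base.2 g h⟩

theorem hinv : ∀ a, act.gen (inv a) = (act.gen a)⁻¹ :=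
  ext.inv (by decide) CG.G25.base (by decide +kernel) (by decide +kernel)

theorem ev_old {v : List ℕ} (e : ltAll 49 v = true) : ev act.gen v = ev CG.G25.act.gen v := ext_ev ext e

theorem mc_ok : ChainOK act mc [] :=
  chainOK_of_chk act mc [] (by simp) (okc_of_okcb c115) c116
  (allL_cons c112 (allL_cons c113 (allL_cons c114 (allL_nil _))))

theorem mc_le : Nat.card PG ≤ prodN mc := card.trans_le ((ble_iff _ _).1 (by decide +kernel))

theorem mc_base : act.IsBase mcB := (show bases mc = mcB from (eqL_iff _ _).1 (by decide +kernel)) ▸ mc_ok.isBase mc_le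

theorem mf_ok : ChainOK act mf [] :=
  chainOK_of_chk act mf [] (by simp) (okc_of_okcb c123) c124
  (allL_cons c117 (allL_cons c118 (allL_cons c119 (allL_cons c120 (allL_cons c121 (allL_cons c122 (allL_nil _)))))))

theorem mf_le : Nat.card PG ≤ prodN mf := card.trans_le ((ble_iff _ _).1 (by decide +kernel))

theorem mf_base : act.IsBase mfB := (show bases mf = mfB from (eqL_iff _ _).1 (by decide +kernel)) ▸ mf_ok.isBase mf_le

theorem ms_ok : ChainOK act ms [] :=
  chainOK_of_chk act ms [] (by simp) (okc_of_okcb c127) c128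
  (allL_cons c125 (allL_cons c126 (allL_nil _)))

theorem cc_ok : ChainOK act cc [] :=
  chainOK_of_chk act cc [] (by simp) (okc_of_okcb c131) c132
  (allL_cons c129 (allL_cons c130 (allL_nil _)))

theorem p_cent : ∀ g ∈ Subgroup.centralizer (cl act.gen pS : Set PG), ∃ φ ∈ pF, g = ev act.gen φ :=
  centralizer_subset (l := mc0) (L := [mc1, mc2]) mc_ok mc_le mc_base (Q := pQ) (Rf := pR) (by decide +kernel) (by decide +kernel) (by decide +kernel)
    (rapp (trChk (appB tabs CG.G25.t49 0xfffff) mc0 [mc1, mc2] mcB (diagQ pQ) (diagQ pR) pF) (fun _ _ _ => trChk_append) 19530 (rapp (trChk (appB tabs CG.G25.t49 0xfffff) mc0 [mc1, mc2] mcB (diagQ pQ) (diagQ pR) pF) (fun _ _ _ => trChk_append) 17874 (rapp (trChk (appB tabs CG.G25.t49 0xfffff) mc0 [mc1, mc2] mcB (diagQ pQ) (diagQ pR) pF) (fun _ _ _ => trChk_append) 15888 (rapp (trChk (appB tabs CG.G25.t49 0xfffff) mc0 [mc1, mc2] mcB (diagQ pQ) (diagQ pR) pF) (fun _ _ _ => trChk_append) 13902 (rapp (trChk (appB tabs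 CG.G25.t49 0xfffff) mc0 [mc1, mc2] mcB (diagQ pQ) (diagQ pR) pF) (fun _ _ _ => trChk_append) 11916 (rapp (trChk (appB tabs CG.G25.t49 0xfffff) mc0 [mc1, mc2] mcB (diagQ pQ) (diagQ pR) pF) (fun _ _ _ => trChk_append) 9930 (rapp (trChk (appB tabs CG.G25.t49 0xfffff) mc0 [mc1, mc2] mcB (diagQ pQ) (diagQ pR) pF) (fun _ _ _ => trChk_append) 7944 (rapp (trChk (appB tabs CG.G25.t49 0xfffff) mc0 [mc1, mc2] mcB (diagQ pQ) (diagQ pR) pF) (fun _ _ _ => trChk_append) 5958 (rapp (trChk (appB tabs CG.G25.t49 0xfffff) mc0 [mc1, mc2] mcB (diagQ pQ) (diagQ pR) pF) (fun _ _ _ => trChk_append) 3972 c133 c134 rfl rfl) c135 rfl rfl) c136 rfl rfl) c137 rfl rfl) c138 rfl rfl) c139 rfl rfl) c140 rfl rfl) c141 rfl rfl) c142 rfl rfl)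

theorem base : act.IsBase bs := mc_base

theorem clAT : cl act.gen [128, 130] = ⊤ :=
  ext_top ext (lo := 128) (cnt := 22) (by decide) (by decide) (by decide +kernel) mc_ok mc_le (by decide +kernel)

theorem cardP : Nat.card (cl act.gen pS) = 7 ^ 1 :=
  card_cl_singleton base (by norm_num) (by decide +kernel) (by decide +kernel)

theorem autT (φ : MulAut PG) : ∃ g : PG, φ (act.gen 130) = g * act.gen 130 * g⁻¹ :=
  aut_class base (r := 7) (by norm_num) cardP (not_dvd_of_eq card (by decide +kernel)) p_cent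
    c143 φ

theorem autA (φ : MulAut PG) : ∃ g : PG, ∃ a' ∈ aK, g * φ (act.gen 128) * g⁻¹ = act.gen a' :=
  aut_pow base (p := 7) (by norm_num) (not_dvd_of_eq card (by decide +kernel))
    c144 φ

theorem enumOK : en.OK app tst 0 15500 0 429425571932451041 :=
  (Enum.OK.append (Enum.OK.append (Enum.OK.append (Enum.ok_of_chk c145)
  (Enum.ok_of_chk c146))
  (Enum.ok_of_chk c147))
  (Enum.ok_of_chk c148))

theorem cent_le : prodN cc ≤ Nat.card (Subgroup.centralizer {act.gen 130}) :=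
  le_card_centralizer base cc_ok c149

theorem classAll (g : PG) : ∃ f, act.Rep (g * act.gen 130 * g⁻¹) f ∧ tst f = true :=
  Enum.OK.all (A := act) (E := en) enumOK hinv (okc_of_okcb (n := 19530) (w := 20) (by decide +kernel)) cent_le
    (card ▸ (ble_iff _ _).1 (by decide +kernel)) g

theorem autPair (φ : MulAut PG) : ∃ s ∈ [(128, 130)], ∃ g : PG, φ (act.gen 128) = g * act.gen s.1 * g⁻¹ ∧ φ (act.gen 130) = g * act.gen s.2 * g⁻¹ :=
  aut_pair base c150 (okc_of_okcb (n := 19530) (w := 20) (by decide +kernel)) autA autT classAll φ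

theorem v_cent : ∀ g ∈ Subgroup.centralizer (cl act.gen vS : Set PG), ∃ φ ∈ vF, g = ev act.gen φ :=
  centralizer_subset (l := mc0) (L := [mc1, mc2]) mc_ok mc_le mc_base (Q := vQ) (Rf := vR) (by decide +kernel) (by decide +kernel) (by decide +kernel)
    (rapp (trChk (appB tabs CG.G25.t49 0xfffff) mc0 [mc1, mc2] mcB (diagQ vQ) (diagQ vR) vF) (fun _ _ _ => trChk_append) 19530 (rapp (trChk (appB tabs CG.G25.t49 0xfffff) mc0 [mc1, mc2] mcB (diagQ vQ) (diagQ vR) vF) (fun _ _ _ => trChk_append) 17874 (rapp (trChk (appB tabs CG.G25.t49 0xfffff) mc0 [mc1, mc2] mcB (diagQ vQ) (diagQ vR) vF) (fun _ _ _ => trChk_append) 15888 (rapp (trChk (appB tabs CG.G25.t49 0xfffff) mc0 [mc1, mc2] mcB (diagQ vQ) (diagQ vR) vF) (fun _ _ _ => trChk_append) 13902 (rapp (trChk (appB tabs CG.G25.t49 0xfffff) mc0 [mc1, mc2] mcB (diagQ vQ) (diagQ vR) vF) (fun _ _ _ => trChk_append) 11916 (rapp (trChk (appB tabs CG.G25.t49 0xfffff) mc0 [mc1, mc2] mcB (diagQ vQ) (diagQ vR) vF) (fun _ _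 _ => trChk_append) 9930 (rapp (trChk (appB tabs CG.G25.t49 0xfffff) mc0 [mc1, mc2] mcB (diagQ vQ) (diagQ vR) vF) (fun _ _ _ => trChk_append) 7944 (rapp (trChk (appB tabs CG.G25.t49 0xfffff) mc0 [mc1, mc2] mcB (diagQ vQ) (diagQ vR) vF) (fun _ _ _ => trChk_append) 5958 (rapp (trChk (appB tabs CG.G25.t49 0xfffff) mc0 [mc1, mc2] mcB (diagQ vQ) (diagQ vR) vF) (fun _ _ _ => trChk_append) 3972 c151 c152 rfl rfl) c153 rfl rfl) c154 rfl rfl) c155 rfl rfl) c156 rfl rfl) c157 rfl rfl) c158 rfl rfl) c159 rfl rfl) c160 rfl rfl)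

theorem f1_for (h : PG) : ∃ k ∈ cl act.gen f1S, ∃ u ∈ f1U, ∃ s, s • act.pt 0 = act.pt 0 ∧ k * h = ev act.gen u * s :=
  forest_word hok hsur ⟨0, by decide, rfl⟩ (roots := f1X) (by decide +kernel)
    c161 h

theorem f2_for (h : PG) : ∃ k ∈ cl act.gen f2S, ∃ u ∈ f2U, ∃ s, s • act.pt 0 = act.pt 0 ∧ k * h = ev act.gen u * s :=
  forest_word hok hsur ⟨0, by decide, rfl⟩ (roots := f2X) (by decide +kernel)
    c162 h

theorem f3_for (h : PG) : ∃ k ∈ cl act.gen f3S, ∃ u ∈ f3U, ∃ s, s • act.pt 0 = act.pt 0 ∧ k * h = ev act.gen u * s :=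
  forest_word hok hsur ⟨0, by decide, rfl⟩ (roots := f3X) (by decide +kernel)
    c163 h

theorem f4_for (h : PG) : ∃ k ∈ cl act.gen f4S, ∃ u ∈ f4U, ∃ s, s • act.pt 0 = act.pt 0 ∧ k * h = ev act.gen u * s :=
  forest_word hok hsur ⟨0, by decide, rfl⟩ (roots := f4X) (by decide +kernel)
    c164 h

theorem fx_fix {h : PG} (hp : ∀ a ∈ fxS, (h⁻¹ * act.gen a * h) • act.pt 0 = act.pt 0) :
    ∃ u ∈ fxU, ∃ s, s • act.pt 0 = act.pt 0 ∧ h = ev act.gen u * s :=
  fix_word hok hsur ⟨0, by decide, rfl⟩ (F := fxX) (by decide +kernel)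
    c165 hp

theorem hA : pcW app bs0 wA 5 sS = true := c166

theorem hB : band (allL (fun a => normW app bs0 wB g2S [a]) sS) (commW app bs0 wB g2S sS sS) = true := c167

theorem hC : band (allL (fun a => normW app bs0 wC tS [a]) sS) (band (allL (fun a => normW app bs0 wC tS [a]) g2S) (commW app bs0 wC tS g2S sS)) = true := c168

theorem hD : band (band (allL (fun a => normW app bs0 wD zS [a]) q1) (commW app bs0 wD zS q1 q1)) (band (commW app bs0 wD [] zS q1) (commW app bs0 wD [] tS tS)) = true := c169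

theorem hE : band (band (normW app bs0 wE q2 [8]) (normW app bs0 wE q1 [g1])) (band (inW app bs0 wE q1 (repL 4 g1) []) (band (inW app bs0 wE q1 (powL 3 [s1, g1]) []) (inW app bs0 wE q1 [g1, g1, s1] [s1, g1, g1]))) = true := c170

theorem hF : band (allL (fun a => normW app bs0 wF zS [a]) k1) (allL (fun a => normW app bs0 wF tS [a]) k4) = true := c171

theorem le_S : prodN ms ≤ Nat.card (cl act.gen sS) :=
  ext_le_card ext (lo := 49) (cnt := 16) (T := [49,51]) (by decide) (by decide) (by decide +kernel) ms_ok (by decide +kernel) |>.trans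
    (Subgroup.card_le_of_le (cl_mono _ (by decide)))


end Cfsg.Agent.SpO.Ly
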