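import Cfsg.Agent.Lib.SpO.Ly.MC
import Cfsg.Agent.Lib.SpO.Ly.XMain
import Cfsg.Agent.Lib.SpO.Mp

/-! The Lyons group: the faithful module of dimension 111 and the subgroup `G₂(5)`. -/

set_option autoImplicit false
set_option maxRecDepth 100000

namespace Cfsg.Agent.SpO.Ly
open Cfsg.Agent.CG Cfsg.Agent.DC Cfsg.Agent.TCX Cfsg.Agent.Id Matrix

instance fact5 : _root_.Fact (Nat.Prime 5) := ⟨by norm_num⟩

theorem blk : IsBlk (apppT (2 ^ 12) 5 (1 * 111) M.tabs (idc (2 ^ 12) 111))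
    (fun x => red (2 ^ 12) 5 (1 * 111) x = x) M.mw :=
  isBlk_mapw (by norm_num) (by norm_num) (by norm_num) (by norm_num) (by norm_num) M.kS M.kT

/-- The matrices. -/
noncomputable def c : MatCode (Fin 111) (ZMod 5) :=
  code1 (2 ^ 12) 5 111 (by norm_num) (by norm_num) M.tabs M.I 19 (by decide +kernel) M.kT
    (blk.inv (ok_bas M.kT) M.kI)

theorem hpt (x : ℕ) (i : Fin 111) : c.act.pt x i = (dig (2 ^ 12) x i : ZMod 5) := code1_pt _ _ _ _ _ _ _ _ _ _ _ x i

theorem meq {v w : List ℕ} (h : eqB M.mw M.bas v w = true) : ev c.act.gen v = ev c.act.gen w :=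
  c.base.ev_eq (blk.eq (ok_bas M.kT) h)

theorem mone {v : List ℕ} (h : M.one v = true) : ev c.act.gen v = 1 := c.base.ev_eq (blk.one (ok_bas M.kT) h)

theorem csub (w : List ℕ) : M.sub w = true ↔ ev c.act.gen w ∈ subK 111 5 7 :=
  subB_iff (c := c) (by norm_num) hpt (fun _ => Iff.rfl) (ok_bas M.kT) blk (by norm_num) w

theorem cinv (w : List ℕ) : ev c.act.gen (M.iw w) = (ev c.act.gen w)⁻¹ :=
  ev_ivw (inv := nth M.I 19) (code_inv c) w

abbrev G : Type := Spor.Ly

instance finG : Finite G := LyG.finite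

/-- The embedding of the table group. -/
noncomputable def f : PG →* G := LyG.model.choose

/-- The extra generator. -/
noncomputable def t : G := tauG Spor.Ly.edges Spor.Ly.extra LyG.gl 0

/-- The letters. -/
noncomputable abbrev l : ℕ → G := lt G25.act.gen f t 17

theorem spec : (∀ r ∈ LyT.rels.map Prod.fst, ev (tokv G25.act.gen f fun _ => t) r = 1) ∧
    ∀ g, ev (tokv G25.act.gen f fun _ => t) (sbW DC.Ly.iv LyG.ws (LyG.code g)).1 = PresentedGroup.of g :=
  LyG.model.choose_spec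

attribute [irreducible] f t

theorem top : Subgroup.closure (Set.range f ∪ {t}) = ⊤ := top_of_model spec.2

theorem exρ : ∃ ρ : G →* GL (Fin 111) (ZMod 5), ∀ a, ρ (l a) = c.act.gen a :=
  exists_hom (R' := LyT.rels.map Prod.fst) CG.G25.bounds G25.rels G25.clS G25.card.ge DC.Ly.hiv DC.Ly.h256 spec.2
    (hs := LyG.h3) (by decide +kernel) (by decide +kernel) (by norm_num) (by decide +kernel) (by decide +kernel)
    (fun a => (nth LyG.tab (.z, true) a).1) (by decide +kernel) .z rfl _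
    (fun v hv => mone ((allL_iff _ _).1 M.kR v hv))
    (fun v hv => mone ((allL_iff _ _).1 M.kR' _ (List.mem_map_of_mem hv))) (code_inv c 17)
    (code1_triv _ _ _ _ _ _ _ _ _ _ _)

/-- The representation. -/
noncomputable def ρ : G →* GL (Fin 111) (ZMod 5) := exρ.choose

theorem ρw (w : List ℕ) : ρ (ev l w) = ev c.act.gen w := map_ev' exρ.choose_spec w

attribute [irreducible] ρ c

theorem fw {w : List ℕ} (h : ltAll 17 w = true) : f (ev act.gen w) = ev l w := by
  rw [ev_lt _ _ _ h, ev_old]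
  exact (allL_iff _ _).2 fun a ha => (blt_iff _ _).2 (((blt_iff _ _).1 ((allL_iff _ _).1 h a ha)).trans (by norm_num))

theorem fl {v w : List ℕ} (h : band (ltAll 17 w) (eqW app bs0 v w) = true) : f (ev act.gen v) = ev l w := by
  rw [band_eq] at h
  rw [← fw h.1, base0.ev_eq h.2]

theorem l17 : ev l [17] = t := (ev_singleton _ _).trans (lt_self _ _ _ _)

theorem sem : ∀ j, j < 199 → Sem G25.act false DC.Ly.facts DC.Ly.nd DC.Ly.rules f (fun _ => t) (fun _ => 1) f.range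
    (DC.Ly.facts.get j) :=
  DC.Ly.sem hz_one (rels_one (rels := DC.Ly.rels) spec.1 (by decide +kernel)) (fun g => ⟨g, rfl⟩)
    (by simp [DC.Ly.lrels])

theorem cover (g : G) : ∃ w ∈ M.cwL, ∃ k h, g = f k * ev l w * f h := by
  have : Finite f.range := Finite.of_surjective _ f.rangeRestrict_surjective
  have k := fun {e : ℕ} {tb : ℕ → ℕ} => forest_sound sem hM_I (fun _ => one_mem _) DC.Ly.hiv G25.tabOK.w_pos
    (fun _ => Iff.rfl) (act_surj G25.tabOK) (e := e) (eps := 1) (x0 := 0) ⟨0, by decide, rfl⟩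
    (fun _ hg => stab_passes sem hz_one (fun _ => one_mem _) G25.chain G25.card_le DC.Ly.c5 DC.Ly.c6 hg)
    (fin := DC.Ly.fin) (tb := tb)
  obtain ⟨w, h1, _, ⟨k', rfl⟩, h, e⟩ := cover_words G25.base (r := 17) (ns := [1, 2, 3, 4])
    (cw := nth M.cwL []) (uw := nth M.uwL []) rfl (by decide +kernel) (by decide +kernel)
    (cover_of (M := f.range) (t := t) (fin := DC.Ly.fin) (by decide) (all_cons (k DC.Ly.for0) (all_cons (k DC.Ly.for1)
      (all_cons (k DC.Ly.for2) (all_cons (k DC.Ly.for3) (all_cons (k DC.Ly.for4) all_nil))))) top) g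
  exact ⟨w, (show DC.Ly.fin.map (nth M.cwL []) = M.cwL by decide +kernel) ▸ h1, k', h, e⟩

theorem fH (h : PG) : f h ∈ f.range := ⟨h, rfl⟩

theorem ρH (h : PG) : ρ (f h) ∈ subK 111 5 7 :=
  mem_cl G25.clS (ρ.comp f) (fun a ha => by
    have h1 : ltAll 17 [a] = true := (allL_iff _ _).1 (show allL (fun a => ltAll 17 [a]) G25.tcS = true from rfl) a ha
    rw [MonoidHom.comp_apply, ← ev_singleton G25.act.gen, ← ev_lt _ _ t h1, ρw]
    exact (csub _).1 ((allL_iff _ _).1 M.kH a ha)) h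

theorem mem_iff {g : G} : ρ g ∈ subK 111 5 7 ↔ g ∈ f.range := by
  refine ⟨fun h => ?_, by rintro ⟨k, rfl⟩; exact ρH k⟩
  obtain ⟨w, hw, k, k', rfl⟩ := cover g
  rcases List.mem_cons.1 (show w ∈ [] :: M.cwL.tail from hw) with rfl | hw
  · exact ⟨k * k', by simp⟩
  · have := (allL_iff _ _).1 M.kC w hw
    rw [map_mul, map_mul, mid_mem (ρH _) (ρH _), ρw, ← csub] at h
    rw [h] at this
    exact absurd this (by decide)

theorem sub_iff (w : List ℕ) : M.sub w = true ↔ ev l w ∈ f.range := by rw [csub, ← ρw, mem_iff]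

theorem cj_iff (v w : List ℕ) : M.sub (M.cj v w) = true ↔ ev l v * ev l w * (ev l v)⁻¹ ∈ f.range := by
  rw [csub, ← mem_iff, M.cj, app2_eq, app2_eq, ev_append, ev_append, cinv, map_mul, map_mul, map_inv, ρw, ρw, mul_assoc]

theorem tt : t * t = f (ev act.gen [0, 0]) := by
  have h := spec.1 [256, 256, 1, 1] (by decide +kernel)
  rw [ev_tok _ _ _ (r := 17) (by norm_num) rfl] at h
  have h2 : ev l [17] * ev l [17] * ev l [1, 1] = 1 := by rw [← ev_append, ← ev_append]; exact h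
  rw [l17, ← fw rfl, mul_eq_one_iff_eq_inv, ← map_inv] at h2
  rw [h2, inv_eq_of_mul_eq_one_right (b := ev act.gen [0, 0])]
  rw [← ev_append]; exact base0.ev_eq (w := []) (by decide +kernel)

theorem ok0 : act.ok 0 := ⟨0, by decide, rfl⟩

/-- The point stabiliser. -/
noncomputable abbrev K1 : Subgroup PG := MulAction.stabilizer PG (act.pt 0)

theorem pass' {u : PG} (h : u ∈ K1) : t⁻¹ * f u * t ∈ f.range := by
  obtain ⟨k, hk⟩ := pass_of (stab_passes sem hz_one (M := ⊥) (fun _ => one_mem _) G25.chain G25.card_le DC.Ly.c5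
    DC.Ly.c6 h)
  exact ⟨k, by rw [mul_assoc, show f u * t = t * f k from hk, inv_mul_cancel_left]⟩

theorem a2 : ev act.gen [0, 0] ∈ K1 :=
  gen_fix (A := act) ok0 (S := [0]) (by decide +kernel) (ev_mem _ fun _ ha => gen_mem_cl _ (by simpa using ha))

theorem tswap (u : PG) :
    t * f u * t⁻¹ = t⁻¹ * f (ev act.gen [0, 0] * u * (ev act.gen [0, 0])⁻¹) * t := by
  rw [map_mul, map_mul, map_inv, ← tt]; group

theorem pass {u : PG} (h : u ∈ K1) : t * f u * t⁻¹ ∈ f.range :=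
  tswap u ▸ pass' (mul_mem (mul_mem a2 h) (inv_mem a2))

/-- The elements of the subgroup which stay in it under conjugation. -/
noncomputable def cjK (g : G) : Subgroup PG := f.range.comap ((MulAut.conj g).toMonoidHom.comp f)

theorem mem_cjK {g : G} {u : PG} : u ∈ cjK g ↔ g * f u * g⁻¹ ∈ f.range := Iff.rfl

theorem fix_of {u : PG} (h : t * f u * t⁻¹ ∈ f.range) : u ∈ K1 := by
  obtain ⟨k, k1, r, hr, s, s1, s2⟩ := f1_for u
  have k2 : k ∈ K1 := gen_fix (A := act) ok0 (S := f1S) (by decide +kernel) k1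
  rcases List.mem_cons.1 (show r ∈ [] :: M.rL1.tail from hr) with rfl | hr
  · rw [ev_nil, one_mul] at s2
    exact eq_inv_mul_of_mul_eq s2 ▸ mul_mem (inv_mem k2) s1
  · have h1 := (allL_iff _ _).1 M.kF1 r hr
    have h2 : ltAll 17 r = true := (allL_iff _ _).1 (show allL (ltAll 17) M.rL1.tail = true by decide +kernel) r hr
    have h3 : ev act.gen r ∈ cjK t :=
      eq_mul_inv_of_mul_eq s2.symm ▸ mul_mem (mul_mem (mem_cjK.2 (pass k2)) h) (inv_mem (mem_cjK.2 (pass s1)))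
    rw [mem_cjK, fw h2, ← l17, ← cj_iff] at h3
    rw [h3] at h1
    exact absurd h1 (by decide)

theorem fix_of' {u : PG} (h : t⁻¹ * f u * t ∈ f.range) : u ∈ K1 := by
  have := tswap ((ev act.gen [0, 0])⁻¹ * u * ev act.gen [0, 0])
  rw [← mul_assoc, ← mul_assoc, mul_inv_cancel, one_mul, mul_inv_cancel_right] at this
  rw [← this] at h
  exact (mid_mem (inv_mem a2) a2).1 (fix_of h)

theorem ρf {h : PG} (e : ρ (f h) = 1) : h = 1 :=
  eq_one_of_fix base0 ok0 (ws := [[], [6, 3], [8]]) (by decide +kernel)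
    fun k => fix_of (mem_iff.1 (by simp [e]))

theorem f_inj : Function.Injective f := (injective_iff_map_eq_one f).2 fun h e => ρf (by rw [e, map_one])

theorem ρ_inj : Function.Injective ρ := (injective_iff_map_eq_one ρ).2 fun g e => by
  obtain ⟨k, rfl⟩ := mem_iff.1 (e ▸ one_mem _)
  rw [ρf e, map_one]

theorem geq {v w : List ℕ} (h : eqB M.mw M.bas v w = true) : ev l v = ev l w := ρ_inj (by rw [ρw, ρw, meq h])

theorem linv (w : List ℕ) : ev l (M.iw w) = (ev l w)⁻¹ := ρ_inj (by rw [ρw, map_inv, ρw, cinv])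

theorem ev_cj (v w : List ℕ) : ev l (M.cj v w) = ev l v * ev l w * (ev l v)⁻¹ := by
  rw [M.cj, app2_eq, app2_eq, ev_append, ev_append, linv, mul_assoc]

theorem normZ {s : PG} (h : s ∈ K1) : s ∈ Subgroup.normalizer (cl act.gen zS : Set PG) :=
  fix_le_top (L := [mf0]) (C := [mf1, mf2, mf3, mf4, mf5]) mf_ok mf_le (S := k1) (by decide +kernel)
    (of_normA base0 ((band_eq _ _).1 hF).1) (all_cons h all_nil)

theorem excl {w : List ℕ} {S : List ℕ} {U : List (List ℕ)} {kL : List (ℕ × List ℕ)}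
    (hf : ∀ h, ∃ k ∈ cl act.gen S, ∃ u ∈ U, ∃ s, s • act.pt 0 = act.pt 0 ∧ k * h = ev act.gen u * s)
    (e1 : band (eqL S (kL.map Prod.fst)) (band (allL (ltAll 17) U)
      (allL (fun q => band (ltAll 17 q.2) (eqW app bs0 [q.1] q.2)) kL)) = true)
    (e2 : allL (fun q => M.sub (M.cj w q.2)) kL = true)
    (e3 : allL (fun u => bnot (M.sub (M.cj w (M.cj u M.r0)))) U = true) {h : PG} :
    h * act.gen s6 * h⁻¹ ∉ cjK (ev l w) := fun hh => by
  rw [band_eq, band_eq, eqL_iff] at e1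
  obtain ⟨k, k1, u, hu, s, s1, s2⟩ := hf h
  have k2 : k ∈ cjK (ev l w) := cl_le _ (fun a ha => by
    obtain ⟨q, hq, rfl⟩ := List.mem_map.1 (e1.1 ▸ ha)
    rw [mem_cjK, ← ev_singleton act.gen, fl ((allL_iff _ _).1 e1.2.2 q hq), ← cj_iff]
    exact (allL_iff _ _).1 e2 q hq) k1
  have h1 : h * (s⁻¹ * act.gen s6 * s) * h⁻¹ ∈ cjK (ev l w) :=
    conj_cl (S := zS) (all_cons hh all_nil) (conj_mem' (normZ s1) (gen_mem_cl _ List.mem_cons_self))
  have h2 : ev act.gen u * act.gen s6 * (ev act.gen u)⁻¹ ∈ cjK (ev l w) := by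
    have := mul_mem (mul_mem k2 h1) (inv_mem k2)
    rw [eq_mul_inv_of_mul_eq s2.symm]
    convert this using 1
    group
  have h3 := (allL_iff _ _).1 e3 u hu
  rw [mem_cjK, map_mul, map_mul, map_inv, fw ((allL_iff _ _).1 e1.2.1 u hu), ← ev_singleton act.gen,
    fl (w := M.r0) (by decide +kernel), ← ev_cj, ← cj_iff] at h2
  rw [h2] at h3
  exact absurd h3 (by decide)

theorem lemC {g : G} (hg : ∀ a ∈ g2S, g⁻¹ * f (act.gen a) * g ∈ f.range) :
    g ∈ f.range ∨ ∃ i, i < 5 ∧ ∃ h, g = f (act.gen s1 ^ i) * t * f h := by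
  obtain ⟨w, hw, k, h, e⟩ := cover g⁻¹
  have h1 : ∀ a ∈ g2S, h * act.gen a * h⁻¹ ∈ cjK (ev l w) := fun a ha => by
    have := hg a ha
    rw [← inv_inv g, e, inv_inv] at this
    rw [mem_cjK, ← mid_mem (fH k) (inv_mem (fH k)), map_mul, map_mul, map_inv]
    convert this using 1
    group
  have h6 := h1 s6 (by decide)
  simp only [M.cwL, List.mem_cons, List.not_mem_nil, or_false] at hw
  rcases hw with rfl | rfl | rfl | rfl | rfl
  · exact Or.inl (inv_mem_iff.1 ⟨k * h, by simp [e]⟩)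
  · rw [l17] at e h1
    obtain ⟨u, hu, s, s1, s2⟩ := fx_fix (h := h⁻¹) fun a ha => fix_of (by rw [inv_inv]; exact h1 a ha)
    obtain ⟨i, hi, rfl⟩ : ∃ i, i < 5 ∧ u = repL i 49 := by
      simp only [fxU, List.mem_cons, List.not_mem_nil, or_false] at hu
      rcases hu with rfl | rfl | rfl | rfl | rfl
      exacts [⟨0, by simp, rfl⟩, ⟨1, by simp, rfl⟩, ⟨2, by simp, rfl⟩, ⟨3, by simp, rfl⟩, ⟨4, by simp, rfl⟩]
    obtain ⟨m, hm⟩ := pass' s1
    refine Or.inr ⟨i, hi, m * (ev act.gen [0, 0])⁻¹ * k⁻¹, ?_⟩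
    rw [ev_repL] at s2
    rw [← inv_inv g, e, _root_.mul_inv_rev, ← map_inv, s2, map_mul, map_mul, map_mul, map_inv, map_inv, hm, ← tt]
    group
  · exact absurd h6 (excl f2_for (by decide +kernel) M.kK2 M.kF2)
  · exact absurd h6 (excl f3_for (by decide +kernel) M.kK3 M.kF3)
  · exact absurd h6 (excl f4_for (by decide +kernel) M.kK4 M.kF4)

end Cfsg.Agent.SpO.Ly
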