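import Cfsg.Agent.Lib.SpO.Ly.Mod

/-! The automorphisms of the Lyons group. -/

set_option autoImplicit false
set_option maxRecDepth 100000

namespace Cfsg.Agent.SpO.Ly
open Cfsg.Agent.CG Cfsg.Agent.DC Cfsg.Agent.TCX Cfsg.Agent.Id Equiv
open scoped commutatorElement

/-- The cycle of length five. -/
def pi6 : Perm (Fin 6) := ⟨![0, 2, 3, 4, 5, 1], ![0, 5, 1, 2, 3, 4], by decide, by decide⟩
/-- The first exceptional solution. -/
def sg0 : Perm (Fin 6) := ⟨![1, 0, 2, 4, 3, 5], ![1, 0, 2, 4, 3, 5], by decide, by decide⟩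
/-- The second exceptional solution. -/
def sg1 : Perm (Fin 6) := ⟨![3, 1, 4, 0, 2, 5], ![3, 1, 4, 0, 2, 5], by decide, by decide⟩

theorem six : ∀ σ : Perm (Fin 6), σ ^ 4 = 1 → ∀ j : Fin 5, (pi6 ^ (j : ℕ) * σ) ^ 3 = 1 →
    σ * σ * pi6 ^ (j : ℕ) = pi6 ^ (j : ℕ) * σ * σ → σ 0 = 0 ∨
      ∃ a : Fin 5, σ * pi6 ^ (a : ℕ) = pi6 ^ (a : ℕ) * sg0 ∨ σ * pi6 ^ (a : ℕ) = pi6 ^ (a : ℕ) * sg1 := by
  decide +kernel

noncomputable abbrev SS : Subgroup PG := cl act.gen sS
noncomputable abbrev Q1 : Subgroup PG := cl act.gen q1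
noncomputable abbrev G2 : Subgroup PG := cl act.gen g2S
noncomputable abbrev TT : Subgroup PG := cl act.gen tS

theorem pcS : act.gen s1 ^ 5 ∈ Q1 ∧ act.gen s1 ∈ Subgroup.normalizer (Q1 : Set PG) :=
  ⟨(of_pcW base0 (T := q1) hA).1, (of_pcW base0 (T := q1) hA).2.1⟩

theorem formS {x : PG} (h : x ∈ SS) : ∃ j, j < 5 ∧ ∃ q ∈ Q1, x = act.gen s1 ^ j * q :=
  pc_form (T := q1) (by norm_num) pcS.1 pcS.2 h

theorem Q1_le {q : PG} (h : q ∈ Q1) : q ∈ K1 := gen_fix (A := act) ok0 (S := q1) (by decide +kernel) h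

theorem s1pow {j : ℕ} (hj : j < 5) (h : act.gen s1 ^ j ∈ K1) : j = 0 := by
  have := (allLt_iff _ _).1 (show allLt (fun j => bor (Nat.beq j 0) (neW app 0 (repL j s1) [])) 5 = true by
    decide +kernel) j hj
  rw [bor_eq, beq_iff] at this
  refine this.resolve_right fun h2 => ?_
  unfold neW at h2
  rw [bnot_eq, beq_false_iff] at h2
  rw [← ev_repL, MulAction.mem_stabilizer_iff, act.ev_smul _ ok0] at h
  exact h2 (act.inj _ _ (act.ok_evp _ ok0) ok0 h)

theorem shift {G : Type*} [Group G] (s q : G) (i j : ℕ) :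
    (s ^ i)⁻¹ * (s ^ j * q) * s ^ i = s ^ j * ((s ^ i)⁻¹ * q * s ^ i) := by group

theorem inQ1 {x : PG} {i : ℕ} (hx : x ∈ SS) (h : (act.gen s1 ^ i)⁻¹ * x * act.gen s1 ^ i ∈ K1) : x ∈ Q1 := by
  obtain ⟨j, hj, q, hq, rfl⟩ := formS hx
  rw [shift, K1.mul_mem_cancel_right (Q1_le (conj_mem' (pow_mem pcS.2 i) hq))] at h
  rwa [s1pow hj h, pow_zero, one_mul]

theorem fix_of_conj {k h x : PG} (e : (f k * t * f h)⁻¹ * f x * (f k * t * f h) ∈ f.range) : k⁻¹ * x * k ∈ K1 := by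
  refine fix_of' ((mid_mem (inv_mem (fH h)) (fH h)).1 ?_)
  rw [map_mul, map_mul, map_inv]
  convert e using 1
  group

theorem cardS : Nat.card SS = 5 ^ 6 :=
  le_antisymm (card_le_pc base0 (by norm_num) hA) ((show prodN ms = 5 ^ 6 by decide +kernel) ▸ le_S)

theorem s1S : act.gen s1 ∈ SS := gen_mem_cl _ (by decide)

theorem normS (φ : MulAut G) : ∃ g, (SS.map f).map (MulAut.conj g * φ : MulAut G).toMonoidHom = SS.map f := by
  have hP : Nat.card (SS.map f) = 5 ^ 6 := (Subgroup.card_map_of_injective f_inj).trans cardS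
  refine exists_norm (by norm_num) hP (not_dvd_of_norm (K := f.range) (by norm_num) hP
    (by rw [← Nat.card_congr (MonoidHom.ofInjective f_inj).toEquiv]; exact not_dvd_of_eq card (by decide +kernel))
    fun g h => ?_) φ
  have h1 : ∀ x ∈ SS, g⁻¹ * f x * g ∈ f.range := fun x hx => Subgroup.map_le_range f _ (h _ ⟨x, hx, rfl⟩)
  refine (lemC fun a ha => h1 _ (gen_mem_cl _ ((show ∀ a ∈ g2S, a ∈ sS by decide) a ha))).resolve_right ?_
  rintro ⟨i, -, k, rfl⟩
  have := Q1_le (inQ1 s1S (fix_of_conj (h1 _ s1S)))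
  exact absurd (s1pow (j := 1) (by norm_num) (by rwa [pow_one])) (by norm_num)

theorem cB : ∀ x ∈ SS, ∀ y ∈ SS, ⁅x, y⁆ ∈ G2 := fun _ hx _ hy =>
  of_commW base0 ((band_eq _ _).1 hB).1 ((band_eq _ _).1 hB).1 ((band_eq _ _).1 hB).2 hx hy

theorem cC : ∀ x ∈ G2, ∀ y ∈ SS, ⁅x, y⁆ ∈ TT := fun _ hx _ hy => by
  have := hC
  rw [band_eq, band_eq] at this
  exact of_commW base0 this.2.1 this.1 this.2.2 hx hy

theorem cD : (∀ x ∈ Q1, ∀ y ∈ Q1, ⁅x, y⁆ ∈ cl act.gen zS) ∧ (∀ x ∈ cl act.gen zS, ∀ y ∈ Q1, ⁅x, y⁆ ∈ cl act.gen []) ∧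
    ∀ x ∈ TT, ∀ y ∈ TT, ⁅x, y⁆ ∈ cl act.gen [] := by
  have := hD
  rw [band_eq, band_eq, band_eq] at this
  exact ⟨fun _ hx _ hy => of_commW base0 this.1.1 this.1.1 this.1.2 hx hy,
    fun _ hx _ hy => of_commW base0 (by decide +kernel) (by decide +kernel) this.2.1 hx hy,
    fun _ hx _ hy => of_commW base0 (by decide +kernel) (by decide +kernel) this.2.2 hx hy⟩

theorem e3 : act.gen s3 = ⁅act.gen s1, act.gen s2⁆ := comm_of_eqW base0 (by decide +kernel)
theorem e4 : act.gen s4 = ⁅act.gen s1, act.gen s3⁆ := comm_of_eqW base0 (by decide +kernel)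
theorem e5 : act.gen s5 = ⁅act.gen s1, act.gen s4⁆ := comm_of_eqW base0 (by decide +kernel)
theorem e6 : act.gen s6 = ⁅act.gen s2, act.gen s5⁆ := comm_of_eqW base0 (by decide +kernel)

theorem mpG2 {α : MulAut G} (h : Mp f α SS SS) : Mp f α G2 G2 := by
  have m : ∀ a ∈ sS, α (f (act.gen a)) ∈ SS.map f := fun a ha => h _ (gen_mem_cl _ ha)
  exact mp_cl (all_cons (e3 ▸ mp_comm cB (m _ (by decide)) (m _ (by decide)))
    (all_cons (e4 ▸ mp_comm cB (m _ (by decide)) (m _ (by decide)))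
    (all_cons (e5 ▸ mp_comm cB (m _ (by decide)) (m _ (by decide)))
    (all_cons (e6 ▸ mp_comm cB (m _ (by decide)) (m _ (by decide))) all_nil))))

theorem key {α : MulAut G} (h : Mp f α SS SS) (h' : Mp f α⁻¹ SS SS) {Q : Subgroup PG} (h1 : G2 ≤ Q) (h2 : Q ≤ SS)
    {e : PG} (he : e ∈ Subgroup.normalizer (Q : Set PG)) : α (f e) ∈ f.range ∨ Mp f α Q Q1 := by
  have h3 : Mp f α Q SS := fun x hx => h x (h2 hx)
  refine (lemC fun a ha => Subgroup.map_le_range f _ ((mpG2 h').conj h1 h3 he (gen_mem_cl _ ha))).imp id ?_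
  rintro ⟨i, -, k, e1⟩ x hx
  obtain ⟨y, hy, e2⟩ := h3 x hx
  have := h3.range (conj_mem' he hx)
  rw [map_mul, map_mul, map_mul, map_mul, map_inv, map_inv, ← e2, e1] at this
  exact ⟨y, inQ1 hy (fix_of_conj this), e2⟩

theorem img8 {α : MulAut G} (h : Mp f α SS SS) (h' : Mp f α⁻¹ SS SS) : α (f (act.gen 8)) ∈ f.range := by
  have := hE
  rw [band_eq, band_eq] at this
  refine (key h h' (Q := cl act.gen q2) (cl_mono _ (by decide)) (cl_mono _ (by decide))
    (ev_singleton act.gen 8 ▸ of_normW base0 this.1.1)).resolve_right fun h1 => ?_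
  have m1 := h1 _ (gen_mem_cl _ (show s1 ∈ q2 by decide))
  have m3 := h1 _ (gen_mem_cl _ (show s3 ∈ q2 by decide))
  have := eq_one_of_mp f_inj (mp_comm cD.2.1 (mp_comm cD.1 m1 m3) m3)
  rw [← e4, commutatorElement_eq_one_iff_mul_comm] at this
  exact act.ev_ne_of_eqW base0.1 (v := [s4, s3]) (w := [s3, s4]) (by decide +kernel) (by simpa using this)

/-- The six cosets. -/
noncomputable def cs (i : Fin 6) : G ⧸ f.range := (ev l (M.pw i) : G)

theorem cs_w {w : List ℕ} {i j : Fin 6} (h : M.sub (app2 (M.iw (M.pw j)) (app2 w (M.pw i))) = true) :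
    ev l w • cs i = cs j := by
  rw [sub_iff, app2_eq, app2_eq, ev_append, ev_append, linv, ← mul_assoc] at h
  exact coset_eq.2 h

theorem pw0 : ev l (M.pw 0) = 1 := rfl

theorem pwS {i : ℕ} (hi : i < 5) : ev l (M.pw (i + 1)) = f (act.gen s1 ^ i) * t := by
  have := (allLt_iff _ _).1 (show allLt (fun i => band (eqL (M.pw (i + 1)) (app2 (repL i 2) [17]))
    (band (ltAll 17 (repL i 2)) (eqW app bs0 (repL i s1) (repL i 2)))) 5 = true by decide +kernel) i hi
  rw [band_eq, eqL_iff, app2_eq] at this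
  rw [this.1, ev_append, l17, ← ev_repL, fl this.2]

theorem cs_inj : Function.Injective cs := fun i j e => by
  have := (allLt_iff _ _).1 ((allLt_iff _ _).1 (show allLt (fun i => allLt (fun j => bor (Nat.beq i j)
    (bnot (M.sub (app2 (M.iw (M.pw i)) (M.pw j))))) 6) 6 = true by decide +kernel) i i.2) j j.2
  rw [bor_eq, beq_iff, bnot_eq, ← Bool.not_eq_true, sub_iff, app2_eq, ev_append, linv] at this
  exact Fin.ext (this.resolve_right fun h => h (QuotientGroup.eq.1 e))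

theorem csQ {q : PG} (hq : q ∈ Q1) (i : Fin 6) : f q • cs i = cs i := by
  refine coset_eq.2 ?_
  rcases i with ⟨_ | i, hi⟩
  · rw [pw0]; simp
  · rw [pwS (by omega)]
    have := pass' (Q1_le (conj_mem' (pow_mem pcS.2 i) hq))
    rw [map_mul, map_mul, map_inv] at this
    convert this using 1
    group

theorem kerT {n : G} (h : ∀ i, n • cs i = cs i) : n ∈ Subgroup.normalizer (TT.map f : Set G) := by
  have h0 := coset_eq.1 (h 0)
  rw [show ev l (M.pw (0 : Fin 6)) = 1 from pw0, inv_one, one_mul, mul_one] at h0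
  obtain ⟨m, rfl⟩ := h0
  have h1 : ∀ i, i < 5 → m • act.pt (evp app (repL i s1) 0) = act.pt (evp app (repL i s1) 0) := fun i hi => by
    have := coset_eq.1 (h ⟨i + 1, by omega⟩)
    rw [pwS hi, ← mul_one (f _ * t), ← map_one f] at this
    have := fix_of_conj this
    rwa [MulAction.mem_stabilizer_iff, mul_smul, mul_smul, inv_smul_eq_iff, ← ev_repL, act.ev_smul _ ok0] at this
  refine norm_map (fix_le_top (L := [mf0, mf1, mf2, mf3]) (C := [mf4, mf5]) mf_ok mf_le (S := k4) (by decide +kernel)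
    (of_normA base0 ((band_eq _ _).1 hF).2) fun b hb => ?_)
  rw [show bases [mf0, mf1, mf2, mf3] = [0, 1, 2, 3].map fun i => evp app (repL i s1) 0 by decide +kernel] at hb
  obtain ⟨i, hi, rfl⟩ := List.mem_map.1 hb
  exact h1 i ((show ∀ i ∈ [0, 1, 2, 3], i < 5 by decide) i hi)

theorem fsx {a : ℕ} (ha : a ∈ tS) : f (act.gen a) = ev l (M.sx a) := by
  rw [← ev_singleton act.gen]
  exact fl ((allL_iff _ _).1 (show allL (fun a => band (ltAll 17 (M.sx a)) (eqW app bs0 [a] (M.sx a))) tS = true by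
    decide +kernel) a ha)

theorem m0T {q : List ℕ × List ℕ × List (List ℕ)} (hq : q ∈ M.m0L) :
    ev l q.1 ∈ Subgroup.normalizer (TT.map f : Set G) := by
  rw [map_cl]
  refine norm_cl fun a ha => ?_
  obtain ⟨i, hi, rfl⟩ := (show ∀ a ∈ tS, ∃ i, i < 3 ∧ nth [55, 57, 59] 0 i = a by decide +kernel) a ha
  have h1 := geq ((allLt_iff _ _).1 ((allL_iff _ _).1 M.kN q hq) i hi)
  have h2 := (allL_iff _ _).1 ((allLt_iff _ _).1 ((allL_iff _ _).1 (show allL (fun q => allLt (fun i =>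
    allL (fun a => memL a tS) (nth q.2.2 [] i)) 3) M.m0L = true by decide +kernel) q hq) i hi)
  rw [app2_eq, app2_eq, ev_append, ev_append, ← fsx ha, ev_substW] at h1
  rw [h1, mul_inv_cancel_right]
  exact ev_mem _ fun b hb => fsx ((memL_iff _ _).1 (h2 b hb)) ▸ gen_mem_cl (fun a => f (act.gen a))
    ((memL_iff _ _).1 (h2 b hb))

theorem m0cs {q : List ℕ × List ℕ × List (List ℕ)} (hq : q ∈ M.m0L) {σ : Perm (Fin 6)}
    (h : ∀ i : Fin 6, nth q.2.1 0 i = σ i) (i : Fin 6) : ev l q.1 • cs i = cs (σ i) :=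
  cs_w (h i ▸ (allLt_iff _ _).1 ((allL_iff _ _).1 M.kM q hq) i i.2)

theorem s1cs (i : Fin 6) : f (act.gen s1) • cs i = cs (pi6 i) := by
  rw [← ev_singleton act.gen, fl (w := [2]) (by decide +kernel)]
  exact cs_w ((show ∀ i : Fin 6, M.sub (app2 (M.iw (M.pw (pi6 i))) (app2 [2] (M.pw i))) = true by decide +kernel) i)

theorem six_abs {G X : Type*} [Group G] [MulAction G X] {e : Fin 6 → X} (he : Function.Injective e) {K : Subgroup G}
    (hK : ∀ n : G, (∀ i, n • e i = e i) → n ∈ K) {s m0 m1 y a : G} (h1 : ∀ i, s • e i = e (pi6 i))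
    (h2 : ∀ i, m0 • e i = e (sg0 i)) (h3 : ∀ i, m1 • e i = e (sg1 i)) (k1 : s ∈ K) (k2 : m0 ∈ K) (k3 : m1 ∈ K)
    (hy : ∀ i, ∃ j, y • e i = e j) {j : ℕ} (hj : j < 5) (ha : ∀ i, ((s ^ j)⁻¹ * a) • e i = e i)
    (r1 : ∀ i, y ^ 4 • e i = e i) (r2 : ∀ i, (a * y) ^ 3 • e i = e i)
    (r3 : ∀ i, (y * y * a * (a * y * y)⁻¹) • e i = e i) : y • e 0 = e 0 ∨ y ∈ K := by
  let N := keep G (Set.finite_range e)
  have mk : ∀ n : G, (∀ i, ∃ j, n • e i = e j) → n ∈ N := by
    rintro n h _ ⟨i, rfl⟩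
    exact (h i).imp fun _ => Eq.symm
  obtain ⟨φ, hφ⟩ := perm_rep (N := N) he fun n hn i => (hn _ ⟨i, rfl⟩).imp fun _ => Eq.symm
  have val : ∀ (n : N) (σ : Perm (Fin 6)), (∀ i, (n : G) • e i = e (σ i)) → φ n = σ := fun n σ h =>
    Equiv.ext fun i => he (by rw [← hφ, h])
  let S : N := ⟨s, mk _ fun i => ⟨_, h1 i⟩⟩
  let Y : N := ⟨y, mk _ hy⟩
  let A : N := ⟨a, (N.mul_mem_cancel_left (inv_mem (pow_mem S.2 j))).1 (mk _ fun i => ⟨_, ha i⟩)⟩
  have eS : φ S = pi6 := val _ _ h1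
  have eA : φ A = pi6 ^ j := by
    have := val ((S ^ j)⁻¹ * A) 1 ha
    rwa [map_mul, map_inv, map_pow, eS, inv_mul_eq_one, eq_comm] at this
  have t1 := val (Y ^ 4) 1 r1
  have t2 := val ((A * Y) ^ 3) 1 r2
  have t3 := val (Y * Y * A * (A * Y * Y)⁻¹) 1 r3
  simp only [map_mul, map_pow, map_inv, eA, mul_inv_eq_one] at t1 t2 t3
  have fin : ∀ (m : N) (b : ℕ), (m : G) ∈ K → φ Y * pi6 ^ b = pi6 ^ b * φ m → y ∈ K := fun m b hm h => by
    have := hK ((S ^ b * m)⁻¹ * (Y * S ^ b) : N) fun i => by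
      rw [hφ, map_mul, map_inv, map_mul, map_mul, map_pow, eS, h, inv_mul_cancel]; rfl
    exact (K.mul_mem_cancel_right (pow_mem k1 b)).1
      ((K.mul_mem_cancel_left (inv_mem (mul_mem (pow_mem k1 b) hm))).1 this)
  rcases six (φ Y) t1 ⟨j, hj⟩ t2 t3 with h | ⟨b, h | h⟩
  · exact Or.inl ((hφ Y 0).trans (congrArg e h))
  · exact Or.inr (fin ⟨m0, mk _ fun i => ⟨_, h2 i⟩⟩ b k2 (h.trans (congrArg _ (val _ _ h2).symm)))
  · exact Or.inr (fin ⟨m1, mk _ fun i => ⟨_, h3 i⟩⟩ b k3 (h.trans (congrArg _ (val _ _ h3).symm)))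

theorem imgg {α : MulAut G} (h : Mp f α SS SS) (h' : Mp f α⁻¹ SS SS) : α (f (act.gen g1)) ∈ f.range := by
  have hE' := hE
  rw [band_eq, band_eq, band_eq, band_eq] at hE'
  have hn : act.gen g1 ∈ Subgroup.normalizer (Q1 : Set PG) := ev_singleton act.gen g1 ▸ of_normW base0 hE'.1.2
  have hq : G2 ≤ Q1 := cl_mono _ (by decide)
  refine (key h h' hq (cl_mono _ (by decide)) hn).elim id fun h1 => ?_
  have triv : ∀ x ∈ Q1, ∀ i, α (f x) • cs i = cs i := fun x hx i => by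
    obtain ⟨y, hy, e⟩ := h1 x hx
    rw [← e, csQ hy]
  obtain ⟨x, hx, ex⟩ := h _ s1S
  obtain ⟨j, hj, q, hq', rfl⟩ := formS hx
  have hC' := hC
  rw [band_eq] at hC'
  have := six_abs cs_inj (fun _ => kerT) s1cs (m0cs (q := nth M.m0L ([], [], []) 0) (by decide +kernel)
    (by decide +kernel)) (m0cs (q := nth M.m0L ([], [], []) 1) (by decide +kernel) (by decide +kernel))
    (norm_map (of_normA base0 hC'.1 _ (by decide))) (m0T (by decide +kernel)) (m0T (by decide +kernel))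
    (y := α (f (act.gen g1))) (a := α (f (act.gen s1))) (fun i => ?_) hj
    (fun i => by rw [← ex, map_mul, map_pow, inv_mul_cancel_left, csQ hq'])
    (fun i => by rw [← map_pow, ← map_pow, ← ev_repL, triv _ (mem_of_inW base0 hE'.2.1)])
    (fun i => by
      have := triv _ (mem_of_inW base0 hE'.2.2.1) i
      rwa [ev_powL, ev_cons, ev_singleton, map_pow, map_pow, map_mul, map_mul] at this)
    (fun i => by simpa [mul_assoc] using triv _ (of_inW base0 hE'.2.2.2) i)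
  · rcases this with h2 | h2
    · have := coset_eq.1 h2
      rwa [show ev l (M.pw (0 : Fin 6)) = 1 from pw0, inv_one, one_mul, mul_one] at this
    · have m5 : α (f (act.gen s5)) ∈ TT.map f :=
        e5 ▸ mp_comm (comm_swap cC) (h _ s1S) (mpG2 h _ (gen_mem_cl _ (by decide)))
      have m6 := conj_mem h2 m5
      rw [← map_inv, ← map_inv, ← map_mul, ← map_mul, ← map_mul, ← map_mul] at m6
      have := eq_one_of_mp f_inj (mp_comm cD.2.2 m5 m6)
      rw [commutatorElement_eq_one_iff_mul_comm, ← hinv] at this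
      exact absurd (by simpa [mul_assoc] using this) (act.ev_ne_of_eqW base0.1 (v := [s5, g1, s5, inv g1])
        (w := [g1, s5, inv g1, s5]) (by decide +kernel))
  · have := lemC (g := α (f (act.gen g1)) * ev l (M.pw i)) fun a ha => by
      obtain ⟨y, hy, e⟩ := (mpG2 h').conj hq h1 hn (gen_mem_cl _ ha)
      have := coset_eq.1 (csQ hy i)
      rw [e] at this
      convert this using 1
      group
    rcases this with h2 | ⟨b, hb, k, e⟩
    · exact ⟨0, coset_eq.2 (by rwa [show ev l (M.pw (0 : Fin 6)) = 1 from pw0, inv_one, one_mul])⟩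
    · exact ⟨⟨b + 1, by omega⟩, coset_eq.2 (by rw [pwS hb, mul_assoc, e, inv_mul_cancel_left]; exact fH k)⟩

theorem imgH {α : MulAut G} (h : Mp f α SS SS) (h' : Mp f α⁻¹ SS SS) (x : PG) : α (f x) ∈ f.range := by
  have h1 : ∀ y ∈ cl act.gen hS, α (f y) ∈ (⊤ : Subgroup PG).map f := mp_cl (by
    rw [← MonoidHom.range_eq_map]
    exact all_cons (h.range s1S) (all_cons (h.range (gen_mem_cl _ (by decide)))
      (all_cons (imgg h h') (all_cons (img8 h h') all_nil))))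
  have h2 : ∀ a w, band (eqW app bs0 [a] w) (allL (fun a => bor (memL a hS) (memL (inv a) hS)) w) = true →
      act.gen a ∈ cl act.gen hS := fun a w e => by
    rw [band_eq] at e
    rw [← ev_singleton act.gen, base0.ev_eq e.1]
    exact ev_mem_inv hinv e.2
  rw [MonoidHom.range_eq_map]
  exact h1 x (cl_le _ (all_cons (h2 _ w7 (by decide +kernel)) (all_cons (h2 _ w3 (by decide +kernel)) all_nil))
    (clAT ▸ Subgroup.mem_top x))

theorem autH (γ : MulAut PG) : ∃ k, ∀ x, γ x = k * x * k⁻¹ := by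
  obtain ⟨s, hs, k, h1, h2⟩ := autPair γ
  rw [List.mem_singleton.1 hs] at h1 h2
  exact ⟨k, hom_ext_cl clAT (φ := γ.toMonoidHom) (ψ := (MulAut.conj k).toMonoidHom) (all_cons h1 (all_cons h2 all_nil))⟩

theorem one_of_fix {β : MulAut G} (hβ : ∀ h, β (f h) = f h) : β = 1 := by
  have h1 : ∀ u ∈ K1, (β t)⁻¹ * f u * β t ∈ f.range := fun u hu => by
    obtain ⟨k, hk⟩ := pass' hu
    exact ⟨k, by rw [← hβ k, hk, map_mul, map_mul, map_inv, hβ]⟩
  rcases lemC (g := β t) fun a ha => h1 _ (Q1_le (gen_mem_cl _ ((show ∀ a ∈ g2S, a ∈ q1 by decide) a ha))) with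
    ⟨k, hk⟩ | ⟨i, hi, h, e⟩
  · rw [← hβ, EmbeddingLike.apply_eq_iff_eq] at hk
    have := s1pow (j := 1) (by norm_num) (fix_of (by rw [← hk, ← map_inv, ← map_mul, ← map_mul]; exact fH _))
    omega
  have h0 : act.gen 41 ∈ K1 := gen_fix (A := act) ok0 (S := [41]) (by decide +kernel) (gen_mem_cl _ (by simp))
  have h2 := fix_of_conj (e ▸ h1 _ h0)
  have h3 := (allLt_iff _ _).1 (show allLt (fun j => bor (Nat.beq j 0) (neW app 0 (41 :: repL j s1) (repL j s1))) 5 =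
    true by decide +kernel) i hi
  rw [bor_eq, beq_iff] at h3
  obtain rfl : i = 0 := h3.resolve_right fun h3 => by
    unfold neW at h3
    rw [bnot_eq, beq_false_iff] at h3
    rw [MulAction.mem_stabilizer_iff, mul_assoc, mul_smul, inv_smul_eq_iff, ← ev_repL, ← ev_cons, act.ev_smul _ ok0,
      act.ev_smul _ ok0] at h2
    exact h3 (act.inj _ _ (act.ok_evp _ ok0) (act.ok_evp _ ok0) h2)
  rw [pow_zero, map_one, one_mul] at e
  obtain ⟨m, hm, rfl⟩ := v_cent h (mem_cent_cl fun a ha => by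
    obtain ⟨k, hk⟩ := pass (gen_fix (A := act) ok0 (S := vS) (by decide +kernel) (gen_mem_cl _ ha))
    have := hβ k
    rw [hk, map_mul, map_mul, map_inv, hβ, e, _root_.mul_inv_rev, ← mul_assoc, mul_left_inj, mul_assoc, mul_assoc,
      mul_right_inj, ← mul_assoc, mul_inv_eq_iff_eq_mul, ← map_mul, ← map_mul] at this
    exact (f_inj this).symm)
  rw [List.mem_singleton.1 hm, ev_nil, map_one, mul_one] at e
  exact aut_ext top hβ e

theorem card_out : Nat.card (Out G) = 1 := card_out_one fun φ => by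
  obtain ⟨g, hg⟩ := normS φ
  obtain ⟨k, hk⟩ := fix_of_restrict f_inj (imgH (mp_of_map hg).1 (mp_of_map hg).2) autH
  exact inn_of_conj (inn_of_conj (one_of_fix hk ▸ one_mem _))

end Cfsg.Agent.SpO.Ly
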