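import Cfsg.Agent.Lib.SpO.Ly.D0
import Cfsg.Agent.Lib.SpO.Ly.D1
import Cfsg.Agent.Lib.Grp.G25.Main
import Cfsg.Agent.Lib.SpO.Pc

set_option autoImplicit false
set_option maxRecDepth 100000
set_option Elab.async false
set_option linter.unusedSectionVars false

namespace Cfsg.Agent.SpO.Ly
open Cfsg.Agent.CG Cfsg.Agent.SpO

noncomputable def t49 : Tr ℕ := (.node (.node (.node (.leaf t49_0) (.leaf t49_4)) (.leaf t49_2)) (.node (.node (.leaf t49_1) (.leaf t49_5)) (.leaf t49_3)))
noncomputable def t50 : Tr ℕ := (.node (.node (.node (.leaf t50_0) (.leaf t50_4)) (.leaf t50_2)) (.node (.node (.leaf t50_1) (.leaf t50_5)) (.leaf t50_3)))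
noncomputable def t51 : Tr ℕ := (.node (.node (.node (.leaf t51_0) (.leaf t51_4)) (.leaf t51_2)) (.node (.node (.leaf t51_1) (.leaf t51_5)) (.leaf t51_3)))
noncomputable def t52 : Tr ℕ := (.node (.node (.node (.leaf t52_0) (.leaf t52_4)) (.leaf t52_2)) (.node (.node (.leaf t52_1) (.leaf t52_5)) (.leaf t52_3)))
noncomputable def t53 : Tr ℕ := (.node (.node (.node (.leaf t53_0) (.leaf t53_4)) (.leaf t53_2)) (.node (.node (.leaf t53_1) (.leaf t53_5)) (.leaf t53_3)))
noncomputable def t54 : Tr ℕ := (.node (.node (.node (.leaf t54_0) (.leaf t54_4)) (.leaf t54_2)) (.node (.node (.leaf t54_1) (.leaf t54_5)) (.leaf t54_3)))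
noncomputable def t55 : Tr ℕ := (.node (.node (.node (.leaf t55_0) (.leaf t55_4)) (.leaf t55_2)) (.node (.node (.leaf t55_1) (.leaf t55_5)) (.leaf t55_3)))
noncomputable def t56 : Tr ℕ := (.node (.node (.node (.leaf t56_0) (.leaf t56_4)) (.leaf t56_2)) (.node (.node (.leaf t56_1) (.leaf t56_5)) (.leaf t56_3)))
noncomputable def t57 : Tr ℕ := (.node (.node (.node (.leaf t57_0) (.leaf t57_4)) (.leaf t57_2)) (.node (.node (.leaf t57_1) (.leaf t57_5)) (.leaf t57_3)))
noncomputable def t58 : Tr ℕ := (.node (.node (.node (.leaf t58_0) (.leaf t58_4)) (.leaf t58_2)) (.node (.node (.leaf t58_1) (.leaf t58_5)) (.leaf t58_3)))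
noncomputable def t59 : Tr ℕ := (.node (.node (.node (.leaf t59_0) (.leaf t59_4)) (.leaf t59_2)) (.node (.node (.leaf t59_1) (.leaf t59_5)) (.leaf t59_3)))
noncomputable def t60 : Tr ℕ := (.node (.node (.node (.leaf t60_0) (.leaf t60_4)) (.leaf t60_2)) (.node (.node (.leaf t60_1) (.leaf t60_5)) (.leaf t60_3)))
noncomputable def t61 : Tr ℕ := (.node (.node (.node (.leaf t61_0) (.leaf t61_4)) (.leaf t61_2)) (.node (.node (.leaf t61_1) (.leaf t61_5)) (.leaf t61_3)))
noncomputable def t62 : Tr ℕ := (.node (.node (.node (.leaf t62_0) (.leaf t62_4)) (.leaf t62_2)) (.node (.node (.leaf t62_1) (.leaf t62_5)) (.leaf t62_3)))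
noncomputable def t63 : Tr ℕ := (.node (.node (.node (.leaf t63_0) (.leaf t63_4)) (.leaf t63_2)) (.node (.node (.leaf t63_1) (.leaf t63_5)) (.leaf t63_3)))
noncomputable def t64 : Tr ℕ := (.node (.node (.node (.leaf t64_0) (.leaf t64_4)) (.leaf t64_2)) (.node (.node (.leaf t64_1) (.leaf t64_5)) (.leaf t64_3)))
noncomputable def t65 : Tr ℕ := (.node (.node (.node (.leaf t65_0) (.leaf t65_4)) (.leaf t65_2)) (.node (.node (.leaf t65_1) (.leaf t65_5)) (.leaf t65_3)))
noncomputable def t66 : Tr ℕ := (.node (.node (.node (.leaf t66_0) (.leaf t66_4)) (.leaf t66_2)) (.node (.node (.leaf t66_1) (.leaf t66_5)) (.leaf t66_3)))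
noncomputable def t67 : Tr ℕ := (.node (.node (.node (.leaf t67_0) (.leaf t67_4)) (.leaf t67_2)) (.node (.node (.leaf t67_1) (.leaf t67_5)) (.leaf t67_3)))
noncomputable def t68 : Tr ℕ := (.node (.node (.node (.leaf t68_0) (.leaf t68_4)) (.leaf t68_2)) (.node (.node (.leaf t68_1) (.leaf t68_5)) (.leaf t68_3)))
noncomputable def t69 : Tr ℕ := (.node (.node (.node (.leaf t69_0) (.leaf t69_4)) (.leaf t69_2)) (.node (.node (.leaf t69_1) (.leaf t69_5)) (.leaf t69_3)))
noncomputable def t70 : Tr ℕ := (.node (.node (.node (.leaf t70_0) (.leaf t70_4)) (.leaf t70_2)) (.node (.node (.leaf t70_1) (.leaf t70_5)) (.leaf t70_3)))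
noncomputable def t71 : Tr ℕ := (.node (.node (.node (.leaf t71_0) (.leaf t71_4)) (.leaf t71_2)) (.node (.node (.leaf t71_1) (.leaf t71_5)) (.leaf t71_3)))
noncomputable def t72 : Tr ℕ := (.node (.node (.node (.leaf t72_0) (.leaf t72_4)) (.leaf t72_2)) (.node (.node (.leaf t72_1) (.leaf t72_5)) (.leaf t72_3)))
noncomputable def t73 : Tr ℕ := (.node (.node (.node (.leaf t73_0) (.leaf t73_4)) (.leaf t73_2)) (.node (.node (.leaf t73_1) (.leaf t73_5)) (.leaf t73_3)))
noncomputable def t74 : Tr ℕ := (.node (.node (.node (.leaf t74_0) (.leaf t74_4)) (.leaf t74_2)) (.node (.node (.leaf t74_1) (.leaf t74_5)) (.leaf t74_3)))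
noncomputable def t75 : Tr ℕ := (.node (.node (.node (.leaf t75_0) (.leaf t75_4)) (.leaf t75_2)) (.node (.node (.leaf t75_1) (.leaf t75_5)) (.leaf t75_3)))
noncomputable def t76 : Tr ℕ := (.node (.node (.node (.leaf t76_0) (.leaf t76_4)) (.leaf t76_2)) (.node (.node (.leaf t76_1) (.leaf t76_5)) (.leaf t76_3)))
noncomputable def t77 : Tr ℕ := (.node (.node (.node (.leaf t77_0) (.leaf t77_4)) (.leaf t77_2)) (.node (.node (.leaf t77_1) (.leaf t77_5)) (.leaf t77_3)))
noncomputable def t78 : Tr ℕ := (.node (.node (.node (.leaf t78_0) (.leaf t78_4)) (.leaf t78_2)) (.node (.node (.leaf t78_1) (.leaf t78_5)) (.leaf t78_3)))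
noncomputable def t79 : Tr ℕ := (.node (.node (.node (.leaf t79_0) (.leaf t79_4)) (.leaf t79_2)) (.node (.node (.leaf t79_1) (.leaf t79_5)) (.leaf t79_3)))
noncomputable def t80 : Tr ℕ := (.node (.node (.node (.leaf t80_0) (.leaf t80_4)) (.leaf t80_2)) (.node (.node (.leaf t80_1) (.leaf t80_5)) (.leaf t80_3)))
noncomputable def t81 : Tr ℕ := (.node (.node (.node (.leaf t81_0) (.leaf t81_4)) (.leaf t81_2)) (.node (.node (.leaf t81_1) (.leaf t81_5)) (.leaf t81_3)))
noncomputable def t82 : Tr ℕ := (.node (.node (.node (.leaf t82_0) (.leaf t82_4)) (.leaf t82_2)) (.node (.node (.leaf t82_1) (.leaf t82_5)) (.leaf t82_3)))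
noncomputable def t83 : Tr ℕ := (.node (.node (.node (.leaf t83_0) (.leaf t83_4)) (.leaf t83_2)) (.node (.node (.leaf t83_1) (.leaf t83_5)) (.leaf t83_3)))
noncomputable def t84 : Tr ℕ := (.node (.node (.node (.leaf t84_0) (.leaf t84_4)) (.leaf t84_2)) (.node (.node (.leaf t84_1) (.leaf t84_5)) (.leaf t84_3)))
noncomputable def t85 : Tr ℕ := (.node (.node (.node (.leaf t85_0) (.leaf t85_4)) (.leaf t85_2)) (.node (.node (.leaf t85_1) (.leaf t85_5)) (.leaf t85_3)))
noncomputable def t86 : Tr ℕ := (.node (.node (.node (.leaf t86_0) (.leaf t86_4)) (.leaf t86_2)) (.node (.node (.leaf t86_1) (.leaf t86_5)) (.leaf t86_3)))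
noncomputable def t87 : Tr ℕ := (.node (.node (.node (.leaf t87_0) (.leaf t87_4)) (.leaf t87_2)) (.node (.node (.leaf t87_1) (.leaf t87_5)) (.leaf t87_3)))
noncomputable def t88 : Tr ℕ := (.node (.node (.node (.leaf t88_0) (.leaf t88_4)) (.leaf t88_2)) (.node (.node (.leaf t88_1) (.leaf t88_5)) (.leaf t88_3)))
noncomputable def t89 : Tr ℕ := (.node (.node (.node (.leaf t89_0) (.leaf t89_4)) (.leaf t89_2)) (.node (.node (.leaf t89_1) (.leaf t89_5)) (.leaf t89_3)))
noncomputable def t90 : Tr ℕ := (.node (.node (.node (.leaf t90_0) (.leaf t90_4)) (.leaf t90_2)) (.node (.node (.leaf t90_1) (.leaf t90_5)) (.leaf t90_3)))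
noncomputable def t91 : Tr ℕ := (.node (.node (.node (.leaf t91_0) (.leaf t91_4)) (.leaf t91_2)) (.node (.node (.leaf t91_1) (.leaf t91_5)) (.leaf t91_3)))
noncomputable def t92 : Tr ℕ := (.node (.node (.node (.leaf t92_0) (.leaf t92_4)) (.leaf t92_2)) (.node (.node (.leaf t92_1) (.leaf t92_5)) (.leaf t92_3)))
noncomputable def t93 : Tr ℕ := (.node (.node (.node (.leaf t93_0) (.leaf t93_4)) (.leaf t93_2)) (.node (.node (.leaf t93_1) (.leaf t93_5)) (.leaf t93_3)))
noncomputable def t94 : Tr ℕ := (.node (.node (.node (.leaf t94_0) (.leaf t94_4)) (.leaf t94_2)) (.node (.node (.leaf t94_1) (.leaf t94_5)) (.leaf t94_3)))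
noncomputable def t95 : Tr ℕ := (.node (.node (.node (.leaf t95_0) (.leaf t95_4)) (.leaf t95_2)) (.node (.node (.leaf t95_1) (.leaf t95_5)) (.leaf t95_3)))
noncomputable def t96 : Tr ℕ := (.node (.node (.node (.leaf t96_0) (.leaf t96_4)) (.leaf t96_2)) (.node (.node (.leaf t96_1) (.leaf t96_5)) (.leaf t96_3)))
noncomputable def t97 : Tr ℕ := (.node (.node (.node (.leaf t97_0) (.leaf t97_4)) (.leaf t97_2)) (.node (.node (.leaf t97_1) (.leaf t97_5)) (.leaf t97_3)))
noncomputable def t98 : Tr ℕ := (.node (.node (.node (.leaf t98_0) (.leaf t98_4)) (.leaf t98_2)) (.node (.node (.leaf t98_1) (.leaf t98_5)) (.leaf t98_3)))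
noncomputable def t99 : Tr ℕ := (.node (.node (.node (.leaf t99_0) (.leaf t99_4)) (.leaf t99_2)) (.node (.node (.leaf t99_1) (.leaf t99_5)) (.leaf t99_3)))
noncomputable def t100 : Tr ℕ := (.node (.node (.node (.leaf t100_0) (.leaf t100_4)) (.leaf t100_2)) (.node (.node (.leaf t100_1) (.leaf t100_5)) (.leaf t100_3)))
noncomputable def t101 : Tr ℕ := (.node (.node (.node (.leaf t101_0) (.leaf t101_4)) (.leaf t101_2)) (.node (.node (.leaf t101_1) (.leaf t101_5)) (.leaf t101_3)))
noncomputable def t102 : Tr ℕ := (.node (.node (.node (.leaf t102_0) (.leaf t102_4)) (.leaf t102_2)) (.node (.node (.leaf t102_1) (.leaf t102_5)) (.leaf t102_3)))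
noncomputable def t103 : Tr ℕ := (.node (.node (.node (.leaf t103_0) (.leaf t103_4)) (.leaf t103_2)) (.node (.node (.leaf t103_1) (.leaf t103_5)) (.leaf t103_3)))
noncomputable def t104 : Tr ℕ := (.node (.node (.node (.leaf t104_0) (.leaf t104_4)) (.leaf t104_2)) (.node (.node (.leaf t104_1) (.leaf t104_5)) (.leaf t104_3)))
noncomputable def t105 : Tr ℕ := (.node (.node (.node (.leaf t105_0) (.leaf t105_4)) (.leaf t105_2)) (.node (.node (.leaf t105_1) (.leaf t105_5)) (.leaf t105_3)))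
noncomputable def t106 : Tr ℕ := (.node (.node (.node (.leaf t106_0) (.leaf t106_4)) (.leaf t106_2)) (.node (.node (.leaf t106_1) (.leaf t106_5)) (.leaf t106_3)))
noncomputable def t107 : Tr ℕ := (.node (.node (.node (.leaf t107_0) (.leaf t107_4)) (.leaf t107_2)) (.node (.node (.leaf t107_1) (.leaf t107_5)) (.leaf t107_3)))
noncomputable def t108 : Tr ℕ := (.node (.node (.node (.leaf t108_0) (.leaf t108_4)) (.leaf t108_2)) (.node (.node (.leaf t108_1) (.leaf t108_5)) (.leaf t108_3)))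
noncomputable def t109 : Tr ℕ := (.node (.node (.node (.leaf t109_0) (.leaf t109_4)) (.leaf t109_2)) (.node (.node (.leaf t109_1) (.leaf t109_5)) (.leaf t109_3)))
noncomputable def t110 : Tr ℕ := (.node (.node (.node (.leaf t110_0) (.leaf t110_4)) (.leaf t110_2)) (.node (.node (.leaf t110_1) (.leaf t110_5)) (.leaf t110_3)))
noncomputable def t111 : Tr ℕ := (.node (.node (.node (.leaf t111_0) (.leaf t111_4)) (.leaf t111_2)) (.node (.node (.leaf t111_1) (.leaf t111_5)) (.leaf t111_3)))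
noncomputable def t112 : Tr ℕ := (.node (.node (.node (.leaf t112_0) (.leaf t112_4)) (.leaf t112_2)) (.node (.node (.leaf t112_1) (.leaf t112_5)) (.leaf t112_3)))
noncomputable def t113 : Tr ℕ := (.node (.node (.node (.leaf t113_0) (.leaf t113_4)) (.leaf t113_2)) (.node (.node (.leaf t113_1) (.leaf t113_5)) (.leaf t113_3)))
noncomputable def t114 : Tr ℕ := (.node (.node (.node (.leaf t114_0) (.leaf t114_4)) (.leaf t114_2)) (.node (.node (.leaf t114_1) (.leaf t114_5)) (.leaf t114_3)))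
noncomputable def t115 : Tr ℕ := (.node (.node (.node (.leaf t115_0) (.leaf t115_4)) (.leaf t115_2)) (.node (.node (.leaf t115_1) (.leaf t115_5)) (.leaf t115_3)))
noncomputable def t116 : Tr ℕ := (.node (.node (.node (.leaf t116_0) (.leaf t116_4)) (.leaf t116_2)) (.node (.node (.leaf t116_1) (.leaf t116_5)) (.leaf t116_3)))
noncomputable def t117 : Tr ℕ := (.node (.node (.node (.leaf t117_0) (.leaf t117_4)) (.leaf t117_2)) (.node (.node (.leaf t117_1) (.leaf t117_5)) (.leaf t117_3)))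
noncomputable def t118 : Tr ℕ := (.node (.node (.node (.leaf t118_0) (.leaf t118_4)) (.leaf t118_2)) (.node (.node (.leaf t118_1) (.leaf t118_5)) (.leaf t118_3)))
noncomputable def t119 : Tr ℕ := (.node (.node (.node (.leaf t119_0) (.leaf t119_4)) (.leaf t119_2)) (.node (.node (.leaf t119_1) (.leaf t119_5)) (.leaf t119_3)))
noncomputable def t120 : Tr ℕ := (.node (.node (.node (.leaf t120_0) (.leaf t120_4)) (.leaf t120_2)) (.node (.node (.leaf t120_1) (.leaf t120_5)) (.leaf t120_3)))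
noncomputable def t121 : Tr ℕ := (.node (.node (.node (.leaf t121_0) (.leaf t121_4)) (.leaf t121_2)) (.node (.node (.leaf t121_1) (.leaf t121_5)) (.leaf t121_3)))
noncomputable def t122 : Tr ℕ := (.node (.node (.node (.leaf t122_0) (.leaf t122_4)) (.leaf t122_2)) (.node (.node (.leaf t122_1) (.leaf t122_5)) (.leaf t122_3)))
noncomputable def t123 : Tr ℕ := (.node (.node (.node (.leaf t123_0) (.leaf t123_4)) (.leaf t123_2)) (.node (.node (.leaf t123_1) (.leaf t123_5)) (.leaf t123_3)))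
noncomputable def t124 : Tr ℕ := (.node (.node (.node (.leaf t124_0) (.leaf t124_4)) (.leaf t124_2)) (.node (.node (.leaf t124_1) (.leaf t124_5)) (.leaf t124_3)))
noncomputable def t125 : Tr ℕ := (.node (.node (.node (.leaf t125_0) (.leaf t125_4)) (.leaf t125_2)) (.node (.node (.leaf t125_1) (.leaf t125_5)) (.leaf t125_3)))
noncomputable def t126 : Tr ℕ := (.node (.node (.node (.leaf t126_0) (.leaf t126_4)) (.leaf t126_2)) (.node (.node (.leaf t126_1) (.leaf t126_5)) (.leaf t126_3)))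
noncomputable def t127 : Tr ℕ := (.node (.node (.node (.leaf t127_0) (.leaf t127_4)) (.leaf t127_2)) (.node (.node (.leaf t127_1) (.leaf t127_5)) (.leaf t127_3)))
noncomputable def t128 : Tr ℕ := (.node (.node (.node (.leaf t128_0) (.leaf t128_4)) (.leaf t128_2)) (.node (.node (.leaf t128_1) (.leaf t128_5)) (.leaf t128_3)))
noncomputable def t129 : Tr ℕ := (.node (.node (.node (.leaf t129_0) (.leaf t129_4)) (.leaf t129_2)) (.node (.node (.leaf t129_1) (.leaf t129_5)) (.leaf t129_3)))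
noncomputable def t130 : Tr ℕ := (.node (.node (.node (.leaf t130_0) (.leaf t130_4)) (.leaf t130_2)) (.node (.node (.leaf t130_1) (.leaf t130_5)) (.leaf t130_3)))
noncomputable def t131 : Tr ℕ := (.node (.node (.node (.leaf t131_0) (.leaf t131_4)) (.leaf t131_2)) (.node (.node (.leaf t131_1) (.leaf t131_5)) (.leaf t131_3)))
noncomputable def t132 : Tr ℕ := (.node (.node (.node (.leaf t132_0) (.leaf t132_4)) (.leaf t132_2)) (.node (.node (.leaf t132_1) (.leaf t132_5)) (.leaf t132_3)))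
noncomputable def t133 : Tr ℕ := (.node (.node (.node (.leaf t133_0) (.leaf t133_4)) (.leaf t133_2)) (.node (.node (.leaf t133_1) (.leaf t133_5)) (.leaf t133_3)))
noncomputable def t134 : Tr ℕ := (.node (.node (.node (.leaf t134_0) (.leaf t134_4)) (.leaf t134_2)) (.node (.node (.leaf t134_1) (.leaf t134_5)) (.leaf t134_3)))
noncomputable def t135 : Tr ℕ := (.node (.node (.node (.leaf t135_0) (.leaf t135_4)) (.leaf t135_2)) (.node (.node (.leaf t135_1) (.leaf t135_5)) (.leaf t135_3)))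
noncomputable def t136 : Tr ℕ := (.node (.node (.node (.leaf t136_0) (.leaf t136_4)) (.leaf t136_2)) (.node (.node (.leaf t136_1) (.leaf t136_5)) (.leaf t136_3)))
noncomputable def t137 : Tr ℕ := (.node (.node (.node (.leaf t137_0) (.leaf t137_4)) (.leaf t137_2)) (.node (.node (.leaf t137_1) (.leaf t137_5)) (.leaf t137_3)))
noncomputable def t138 : Tr ℕ := (.node (.node (.node (.leaf t138_0) (.leaf t138_4)) (.leaf t138_2)) (.node (.node (.leaf t138_1) (.leaf t138_5)) (.leaf t138_3)))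
noncomputable def t139 : Tr ℕ := (.node (.node (.node (.leaf t139_0) (.leaf t139_4)) (.leaf t139_2)) (.node (.node (.leaf t139_1) (.leaf t139_5)) (.leaf t139_3)))
noncomputable def t140 : Tr ℕ := (.node (.node (.node (.leaf t140_0) (.leaf t140_4)) (.leaf t140_2)) (.node (.node (.leaf t140_1) (.leaf t140_5)) (.leaf t140_3)))
noncomputable def t141 : Tr ℕ := (.node (.node (.node (.leaf t141_0) (.leaf t141_4)) (.leaf t141_2)) (.node (.node (.leaf t141_1) (.leaf t141_5)) (.leaf t141_3)))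
noncomputable def t142 : Tr ℕ := (.node (.node (.node (.leaf t142_0) (.leaf t142_4)) (.leaf t142_2)) (.node (.node (.leaf t142_1) (.leaf t142_5)) (.leaf t142_3)))
noncomputable def t143 : Tr ℕ := (.node (.node (.node (.leaf t143_0) (.leaf t143_4)) (.leaf t143_2)) (.node (.node (.leaf t143_1) (.leaf t143_5)) (.leaf t143_3)))
noncomputable def t144 : Tr ℕ := (.node (.node (.node (.leaf t144_0) (.leaf t144_4)) (.leaf t144_2)) (.node (.node (.leaf t144_1) (.leaf t144_5)) (.leaf t144_3)))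
noncomputable def t145 : Tr ℕ := (.node (.node (.node (.leaf t145_0) (.leaf t145_4)) (.leaf t145_2)) (.node (.node (.leaf t145_1) (.leaf t145_5)) (.leaf t145_3)))
noncomputable def t146 : Tr ℕ := (.node (.node (.node (.leaf t146_0) (.leaf t146_4)) (.leaf t146_2)) (.node (.node (.leaf t146_1) (.leaf t146_5)) (.leaf t146_3)))
noncomputable def t147 : Tr ℕ := (.node (.node (.node (.leaf t147_0) (.leaf t147_4)) (.leaf t147_2)) (.node (.node (.leaf t147_1) (.leaf t147_5)) (.leaf t147_3)))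
noncomputable def t148 : Tr ℕ := (.node (.node (.node (.leaf t148_0) (.leaf t148_4)) (.leaf t148_2)) (.node (.node (.leaf t148_1) (.leaf t148_5)) (.leaf t148_3)))
noncomputable def t149 : Tr ℕ := (.node (.node (.node (.leaf t149_0) (.leaf t149_4)) (.leaf t149_2)) (.node (.node (.leaf t149_1) (.leaf t149_5)) (.leaf t149_3)))
noncomputable def t150 : Tr ℕ := (.node (.node (.node (.leaf t150_0) (.leaf t150_4)) (.leaf t150_2)) (.node (.node (.leaf t150_1) (.leaf t150_5)) (.leaf t150_3)))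
noncomputable def t151 : Tr ℕ := (.node (.node (.node (.leaf t151_0) (.leaf t151_4)) (.leaf t151_2)) (.node (.node (.leaf t151_1) (.leaf t151_5)) (.leaf t151_3)))
noncomputable def t152 : Tr ℕ := (.node (.node (.node (.leaf t152_0) (.leaf t152_4)) (.leaf t152_2)) (.node (.node (.leaf t152_1) (.leaf t152_5)) (.leaf t152_3)))
noncomputable def t153 : Tr ℕ := (.node (.node (.node (.leaf t153_0) (.leaf t153_4)) (.leaf t153_2)) (.node (.node (.leaf t153_1) (.leaf t153_5)) (.leaf t153_3)))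
noncomputable def t154 : Tr ℕ := (.node (.node (.node (.leaf t154_0) (.leaf t154_4)) (.leaf t154_2)) (.node (.node (.leaf t154_1) (.leaf t154_5)) (.leaf t154_3)))
noncomputable def t155 : Tr ℕ := (.node (.node (.node (.leaf t155_0) (.leaf t155_4)) (.leaf t155_2)) (.node (.node (.leaf t155_1) (.leaf t155_5)) (.leaf t155_3)))
noncomputable def t156 : Tr ℕ := (.node (.node (.node (.leaf t156_0) (.leaf t156_4)) (.leaf t156_2)) (.node (.node (.leaf t156_1) (.leaf t156_5)) (.leaf t156_3)))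
noncomputable def t157 : Tr ℕ := (.node (.node (.node (.leaf t157_0) (.leaf t157_4)) (.leaf t157_2)) (.node (.node (.leaf t157_1) (.leaf t157_5)) (.leaf t157_3)))
noncomputable def t158 : Tr ℕ := (.node (.node (.node (.leaf t158_0) (.leaf t158_4)) (.leaf t158_2)) (.node (.node (.leaf t158_1) (.leaf t158_5)) (.leaf t158_3)))
noncomputable def t159 : Tr ℕ := (.node (.node (.node (.leaf t159_0) (.leaf t159_4)) (.leaf t159_2)) (.node (.node (.leaf t159_1) (.leaf t159_5)) (.leaf t159_3)))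
noncomputable def mc0c : Tr ℕ := (.node (.node (.node (.leaf mc0c_0) (.leaf mc0c_4)) (.leaf mc0c_2)) (.node (.node (.leaf mc0c_1) (.leaf mc0c_5)) (.leaf mc0c_3)))
noncomputable def mc0p : Tr ℕ := (.node (.node (.node (.leaf mc0p_0) (.leaf mc0p_4)) (.leaf mc0p_2)) (.node (.leaf mc0p_1) (.leaf mc0p_3)))
noncomputable def mc0l : Tr ℕ := (.node (.node (.leaf mc0l_0) (.leaf mc0l_2)) (.leaf mc0l_1))
noncomputable def mc0i : Tr ℕ := (.node (.node (.leaf mc0i_0) (.leaf mc0i_2)) (.leaf mc0i_1))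
noncomputable def mc0q : Tr ℕ := (.node (.node (.node (.leaf mc0q_0) (.leaf mc0q_4)) (.leaf mc0q_2)) (.node (.node (.leaf mc0q_1) (.leaf mc0q_5)) (.leaf mc0q_3)))
noncomputable def mc1q : Tr ℕ := (.node (.node (.node (.leaf mc1q_0) (.leaf mc1q_4)) (.leaf mc1q_2)) (.node (.node (.leaf mc1q_1) (.leaf mc1q_5)) (.leaf mc1q_3)))
noncomputable def mc2q : Tr ℕ := (.node (.node (.node (.leaf mc2q_0) (.leaf mc2q_4)) (.leaf mc2q_2)) (.node (.node (.leaf mc2q_1) (.leaf mc2q_5)) (.leaf mc2q_3)))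
noncomputable def mf0c : Tr ℕ := (.node (.node (.node (.leaf mf0c_0) (.leaf mf0c_4)) (.leaf mf0c_2)) (.node (.node (.leaf mf0c_1) (.leaf mf0c_5)) (.leaf mf0c_3)))
noncomputable def mf0p : Tr ℕ := (.node (.node (.node (.leaf mf0p_0) (.leaf mf0p_4)) (.leaf mf0p_2)) (.node (.leaf mf0p_1) (.leaf mf0p_3)))
noncomputable def mf0l : Tr ℕ := (.node (.node (.leaf mf0l_0) (.leaf mf0l_2)) (.leaf mf0l_1))
noncomputable def mf0i : Tr ℕ := (.node (.node (.leaf mf0i_0) (.leaf mf0i_2)) (.leaf mf0i_1))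
noncomputable def mf0q : Tr ℕ := (.node (.node (.node (.leaf mf0q_0) (.leaf mf0q_4)) (.leaf mf0q_2)) (.node (.node (.leaf mf0q_1) (.leaf mf0q_5)) (.leaf mf0q_3)))
noncomputable def mf1q : Tr ℕ := (.node (.node (.node (.leaf mf1q_0) (.leaf mf1q_4)) (.leaf mf1q_2)) (.node (.node (.leaf mf1q_1) (.leaf mf1q_5)) (.leaf mf1q_3)))
noncomputable def mf2q : Tr ℕ := (.node (.node (.node (.leaf mf2q_0) (.leaf mf2q_4)) (.leaf mf2q_2)) (.node (.node (.leaf mf2q_1) (.leaf mf2q_5)) (.leaf mf2q_3)))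
noncomputable def mf3q : Tr ℕ := (.node (.node (.node (.leaf mf3q_0) (.leaf mf3q_4)) (.leaf mf3q_2)) (.node (.node (.leaf mf3q_1) (.leaf mf3q_5)) (.leaf mf3q_3)))
noncomputable def mf4q : Tr ℕ := (.node (.node (.node (.leaf mf4q_0) (.leaf mf4q_4)) (.leaf mf4q_2)) (.node (.node (.leaf mf4q_1) (.leaf mf4q_5)) (.leaf mf4q_3)))
noncomputable def mf5q : Tr ℕ := (.node (.node (.node (.leaf mf5q_0) (.leaf mf5q_4)) (.leaf mf5q_2)) (.node (.node (.leaf mf5q_1) (.leaf mf5q_5)) (.leaf mf5q_3)))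
noncomputable def ms0q : Tr ℕ := (.node (.node (.node (.leaf ms0q_0) (.leaf ms0q_4)) (.leaf ms0q_2)) (.node (.node (.leaf ms0q_1) (.leaf ms0q_5)) (.leaf ms0q_3)))
noncomputable def ms1q : Tr ℕ := (.node (.node (.node (.leaf ms1q_0) (.leaf ms1q_4)) (.leaf ms1q_2)) (.node (.node (.leaf ms1q_1) (.leaf ms1q_5)) (.leaf ms1q_3)))
noncomputable def cc0c : Tr ℕ := (.node (.node (.node (.leaf cc0c_0) (.leaf cc0c_4)) (.leaf cc0c_2)) (.node (.node (.leaf cc0c_1) (.leaf cc0c_5)) (.leaf cc0c_3)))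
noncomputable def cc0p : Tr ℕ := (.node (.node (.node (.leaf cc0p_0) (.leaf cc0p_4)) (.leaf cc0p_2)) (.node (.leaf cc0p_1) (.leaf cc0p_3)))
noncomputable def cc0l : Tr ℕ := (.node (.node (.leaf cc0l_0) (.leaf cc0l_2)) (.leaf cc0l_1))
noncomputable def cc0i : Tr ℕ := (.node (.node (.leaf cc0i_0) (.leaf cc0i_2)) (.leaf cc0i_1))
noncomputable def cc0q : Tr ℕ := (.node (.node (.node (.leaf cc0q_0) (.leaf cc0q_4)) (.leaf cc0q_2)) (.node (.node (.leaf cc0q_1) (.leaf cc0q_5)) (.leaf cc0q_3)))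
noncomputable def cc1q : Tr ℕ := (.node (.node (.node (.leaf cc1q_0) (.leaf cc1q_4)) (.leaf cc1q_2)) (.node (.node (.leaf cc1q_1) (.leaf cc1q_5)) (.leaf cc1q_3)))
noncomputable def f1T : Tr ℕ := (.node (.node (.node (.leaf f1T_0) (.leaf f1T_4)) (.leaf f1T_2)) (.node (.node (.leaf f1T_1) (.leaf f1T_5)) (.leaf f1T_3)))
noncomputable def f2T : Tr ℕ := (.node (.node (.node (.leaf f2T_0) (.leaf f2T_4)) (.leaf f2T_2)) (.node (.node (.leaf f2T_1) (.leaf f2T_5)) (.leaf f2T_3)))
noncomputable def f3T : Tr ℕ := (.node (.node (.node (.leaf f3T_0) (.leaf f3T_4)) (.leaf f3T_2)) (.node (.node (.leaf f3T_1) (.leaf f3T_5)) (.leaf f3T_3)))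
noncomputable def f4T : Tr ℕ := (.node (.node (.node (.leaf f4T_0) (.leaf f4T_4)) (.leaf f4T_2)) (.node (.node (.leaf f4T_1) (.leaf f4T_5)) (.leaf f4T_3)))
noncomputable def tabs : List (Tr ℕ) := [CG.G25.t0,CG.G25.t1,CG.G25.t2,CG.G25.t3,CG.G25.t4,CG.G25.t5,CG.G25.t6,CG.G25.t7,CG.G25.t8,CG.G25.t9,CG.G25.t10,CG.G25.t11,CG.G25.t12,CG.G25.t13,CG.G25.t14,CG.G25.t15,CG.G25.t16,CG.G25.t17,CG.G25.t18,CG.G25.t19,CG.G25.t20,CG.G25.t21,CG.G25.t22,CG.G25.t23,CG.G25.t24,CG.G25.t25,CG.G25.t26,CG.G25.t27,CG.G25.t28,CG.G25.t29,CG.G25.t30,CG.G25.t31,CG.G25.t32,CG.G25.t33,CG.G25.t34,CG.G25.t35,CG.G25.t36,CG.G25.t37,CG.G25.t38,CG.G25.t39,CG.G25.t40,CG.G25.t41,CG.G25.t42,CG.G25.t43,CG.G25.t44,CG.G25.t45,CG.G25.t46,CG.G25.t47,CG.G25.t48,t49,t50,t51,t52,t53,t54,t55,t56,t57,t58,t59,t60,t61,t62,t63,t64,t65,t66,t67,t68,t69,t70,t71,t72,t73,t74,t75,t76,t77,t78,t79,t80,t81,t82,t83,t84,t85,t86,t87,t88,t89,t90,t91,t92,t93,t94,t95,t96,t97,t98,t99,t100,t101,t102,t103,t104,t105,t106,t107,t108,t109,t110,t111,t112,t113,t114,t115,t116,t117,t118,t119,t120,t121,t122,t123,t124,t125,t126,t127,t128,t129,t130,t131,t132,t133,t134,t135,t136,t137,t138,t139,t140,t141,t142,t143,t144,t145,t146,t147,t148,t149,t150,t151,t152,t153,t154,t155,t156,t157,t158,t159]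
noncomputable abbrev app : ℕ → ℕ → ℕ := appB tabs CG.G25.t49 0xfffff
noncomputable def slpL : List (Bool × List ℕ) := [(false,[2]),
  (true,[49]),
  (false,[9]),
  (true,[51]),
  (false,[49,51,50,52]),
  (true,[53]),
  (false,[49,53,50,54]),
  (true,[55]),
  (false,[49,55,50,56]),
  (true,[57]),
  (false,[51,57,52,58]),
  (true,[59]),
  (false,[49]),
  (true,[61]),
  (false,[57]),
  (true,[63]),
  (false,[2,2,1,3,3,0]),
  (true,[65]),
  (false,[1]),
  (true,[67]),
  (false,[2,1,3]),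
  (true,[69]),
  (false,[3,0,2,2]),
  (true,[71]),
  (false,[14,15,8,4,7,4]),
  (true,[73]),
  (false,[1]),
  (true,[75]),
  (false,[3]),
  (true,[77]),
  (false,[7]),
  (true,[79]),
  (false,[16,16,7,16]),
  (true,[81]),
  (false,[0,0]),
  (true,[83]),
  (false,[2,1,3]),
  (true,[85]),
  (false,[3,0,7,2]),
  (false,[0,3,1,2,2]),
  (true,[88]),
  (false,[12,6,14,4,14,7,12]),
  (true,[90]),
  (false,[6,3,5,2,5]),
  (true,[92]),
  (false,[6,8,0]),
  (true,[94]),
  (false,[1]),
  (true,[96]),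
  (false,[3,8,6,94]),
  (true,[98]),
  (false,[2,1,3]),
  (true,[100]),
  (false,[100]),
  (true,[102]),
  (false,[99,100,96]),
  (true,[104]),
  (false,[103,105,102]),
  (true,[106]),
  (false,[103,103]),
  (true,[108]),
  (false,[105,105]),
  (true,[110]),
  (false,[110]),
  (true,[112]),
  (false,[109]),
  (true,[114]),
  (false,[107,107]),
  (true,[116]),
  (false,[107,108,106]),
  (true,[118]),
  (false,[107,110,106]),
  (true,[120]),
  (false,[114,120,118,116,112,116]),
  (true,[122]),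
  (false,[119,113,113]),
  (true,[124]),
  (false,[50,66]),
  (true,[126]),
  (false,[8,51,65,49]),
  (true,[128]),
  (false,[66,8,51,8,50,126,49,8,52,8,65]),
  (true,[130]),
  (false,[130,129,129,130,129]),
  (true,[132]),
  (false,[128,132,132]),
  (true,[134]),
  (false,[128,131,135]),
  (true,[136]),
  (false,[128,130,135,136,136,136]),
  (true,[138]),
  (false,[133,137,131,129,130,136]),
  (true,[140]),
  (false,[130,133,135,136,133,131]),
  (true,[142]),
  (false,[139,142,138,138,141,142]),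
  (true,[144]),
  (false,[142,141,139,140,140,138,140]),
  (true,[146]),
  (false,[140,138,141,141,139]),
  (true,[148]),
  (false,[132,137,133,131,140,140,140,138,138,138,144,148,147]),
  (true,[150]),
  (false,[14,74]),
  (true,[152]),
  (false,[60,60,6]),
  (true,[154]),
  (false,[154,152,154,154,153,153,153,155,153,154,152]),
  (true,[156]),
  (false,[152,152,154,152,152,154,152,152,152,154,152]),
  (true,[158])]
noncomputable def slp (a : ℕ) : Bool × List ℕ := nth slpL (false, []) (Nat.sub a 49)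
noncomputable def invL : List ℕ := [1,0,3,2,5,4,7,6,8,10,9,12,11,14,13,16,15,18,17,20,19,22,21,24,23,26,25,28,27,30,29,32,31,34,33,36,35,38,37,40,39,42,41,44,43,46,45,48,47,50,49,52,51,54,53,56,55,58,57,60,59,62,61,64,63,66,65,68,67,70,69,72,71,74,73,76,75,78,77,80,79,82,81,84,83,86,85,87,89,88,91,90,93,92,95,94,97,96,99,98,101,100,103,102,105,104,107,106,109,108,111,110,113,112,115,114,117,116,119,118,121,120,123,122,125,124,127,126,129,128,131,130,133,132,135,134,137,136,139,138,141,140,143,142,145,144,147,146,149,148,151,150,153,152,155,154,157,156,159,158]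
noncomputable def inv (a : ℕ) : ℕ := nth invL 160 a
noncomputable abbrev PG := CG.G25.PG
noncomputable abbrev bs0 : List ℕ := CG.G25.bs
noncomputable def mc0 : Lvl := ⟨31200, [128,129,130,131,132,133,134,135,136,137], 19530,
  fun i => lk2 mc0c 0xfffff (Nat.mul 20 i), fun i => lk2 mc0p 0xffff (Nat.mul 16 i),
  fun i => lk2 mc0l 0xff (Nat.mul 8 i), fun i => lk2 mc0i 0xff (Nat.mul 8 i), fun x => lk2 mc0q 0xfffff x, 6⟩
noncomputable def mc1 : Lvl := ⟨134340, [138,139,140,141,142,143], 3125,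
  fun i => look 0xfffff mc1c (Nat.mul 20 i), fun i => look 0xfff mc1p (Nat.mul 12 i),
  fun i => look 0xff mc1l (Nat.mul 8 i), fun i => look 0xff mc1i (Nat.mul 8 i), fun x => lk2 mc1q 0xfffff x, 6⟩
noncomputable def mc2 : Lvl := ⟨268780, [144,145,146,147,148,149], 96,
  fun i => look 0xfffff mc2c (Nat.mul 20 i), fun i => look 0xff mc2p (Nat.mul 8 i),
  fun i => look 0xff mc2l (Nat.mul 8 i), fun i => look 0xff mc2i (Nat.mul 8 i), fun x => lk2 mc2q 0xfffff x, 4⟩
noncomputable def mc : List Lvl := [mc0, mc1, mc2]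
noncomputable def mcB : List ℕ := [31200,134340,268780]
noncomputable def mf0 : Lvl := ⟨0, [0,1,2,3,4,5,6,7,8,92,93,94,95], 19530,
  fun i => lk2 mf0c 0xfffff (Nat.mul 20 i), fun i => lk2 mf0p 0xffff (Nat.mul 16 i),
  fun i => lk2 mf0l 0xff (Nat.mul 8 i), fun i => lk2 mf0i 0xff (Nat.mul 8 i), fun x => lk2 mf0q 0xfffff x, 6⟩
noncomputable def mf1 : Lvl := ⟨40, [96,97,98,99], 4,
  fun i => look 0xfffff mf1c (Nat.mul 20 i), fun i => look 0xf mf1p (Nat.mul 4 i),
  fun i => look 0xff mf1l (Nat.mul 8 i), fun i => look 0xff mf1i (Nat.mul 8 i), fun x => lk2 mf1q 0xfffff x, 1⟩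
noncomputable def mf2 : Lvl := ⟨160, [102,103,104,105], 3,
  fun i => look 0xfffff mf2c (Nat.mul 20 i), fun i => look 0xf mf2p (Nat.mul 4 i),
  fun i => look 0xff mf2l (Nat.mul 8 i), fun i => look 0xff mf2i (Nat.mul 8 i), fun x => lk2 mf2q 0xfffff x, 1⟩
noncomputable def mf3 : Lvl := ⟨100, [106,107], 2,
  fun i => look 0xfffff mf3c (Nat.mul 20 i), fun i => look 0xf mf3p (Nat.mul 4 i),
  fun i => look 0xff mf3l (Nat.mul 8 i), fun i => look 0xff mf3i (Nat.mul 8 i), fun x => lk2 mf3q 0xfffff x, 1⟩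
noncomputable def mf4 : Lvl := ⟨260, [112,113,114,115,116,117,118,119,120,121], 625,
  fun i => look 0xfffff mf4c (Nat.mul 20 i), fun i => look 0xfff mf4p (Nat.mul 12 i),
  fun i => look 0xff mf4l (Nat.mul 8 i), fun i => look 0xff mf4i (Nat.mul 8 i), fun x => lk2 mf4q 0xfffff x, 4⟩
noncomputable def mf5 : Lvl := ⟨60, [122,123,124,125], 20,
  fun i => look 0xfffff mf5c (Nat.mul 20 i), fun i => look 0xff mf5p (Nat.mul 8 i),
  fun i => look 0xff mf5l (Nat.mul 8 i), fun i => look 0xff mf5i (Nat.mul 8 i), fun x => lk2 mf5q 0xfffff x, 3⟩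
noncomputable def mf : List Lvl := [mf0, mf1, mf2, mf3, mf4, mf5]
noncomputable def mfB : List ℕ := [0,40,160,100,260,60]
noncomputable def ms0 : Lvl := ⟨520, [49,50,51,52,53,54,55,56,57,58,59,60], 625,
  fun i => look 0xfffff ms0c (Nat.mul 20 i), fun i => look 0xfff ms0p (Nat.mul 12 i),
  fun i => look 0xff ms0l (Nat.mul 8 i), fun i => look 0xff ms0i (Nat.mul 8 i), fun x => lk2 ms0q 0xfffff x, 5⟩
noncomputable def ms1 : Lvl := ⟨60, [61,62,63,64], 25,
  fun i => look 0xfffff ms1c (Nat.mul 20 i), fun i => look 0xff ms1p (Nat.mul 8 i),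
  fun i => look 0xff ms1l (Nat.mul 8 i), fun i => look 0xff ms1i (Nat.mul 8 i), fun x => lk2 ms1q 0xfffff x, 4⟩
noncomputable def ms : List Lvl := [ms0, ms1]
noncomputable def cc0 : Lvl := ⟨0, [152,153,154,155], 18900,
  fun i => lk2 cc0c 0xfffff (Nat.mul 20 i), fun i => lk2 cc0p 0xffff (Nat.mul 16 i),
  fun i => lk2 cc0l 0xff (Nat.mul 8 i), fun i => lk2 cc0i 0xff (Nat.mul 8 i), fun x => lk2 cc0q 0xfffff x, 12⟩
noncomputable def cc1 : Lvl := ⟨60, [156,157,158,159], 20,
  fun i => look 0xfffff cc1c (Nat.mul 20 i), fun i => look 0xff cc1p (Nat.mul 8 i),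
  fun i => look 0xff cc1l (Nat.mul 8 i), fun i => look 0xff cc1i (Nat.mul 8 i), fun x => lk2 cc1q 0xfffff x, 3⟩
noncomputable def cc : List Lvl := [cc0, cc1]
noncomputable def pS : List ℕ := [128]
noncomputable def pQ : List (List ℕ) := [[],
  [128],
  [128,128]]
noncomputable def pR : List (List ℕ) := [[128]]
noncomputable def pF : List (List ℕ) := [[],
  [132,137,133,131,140,140,140,138,138,138,144,148,147],
  [129],
  [134,134,136,131,136,129,142,142,139,142,142,139,148,147,144],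
  [137,130,137,137,130,138,141,138,145,148],
  [129,129,129],
  [128,128],
  [128],
  [130,136,132,130,143,139,143,139,145,149,144],
  [132,136,133,128,135,141,141,138,140,142,138,148,146,145],
  [128,128,128],
  [129,129],
  [136,130,132,136,128,142,140,139,141,139,145,146],
  [130,135,136,130,132,129,138,143,141,142,145,148,144],
  [128,130,136,132,130,143,139,143,139,145,149,144],
  [131,137,130,129,132,141,142,141,143,139,144,148],
  [136,132,131,136,129,140,138,138,143,140,138,145,145],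
  [134,136,128,137,137,142,139,139,142,146,149,145],
  [134,137,132,134,129,142,140,139,140,143,148,148,147],
  [133,135,133,128,128,138,141,141,138,144,148,147],
  [137,133,131,135,130,129,139,141,139,143,139,148,144,148,144]]
noncomputable def pU : List (List ℕ) := [[74,3],
  [10,120]]
noncomputable abbrev bs := mcB
noncomputable def aK : List ℕ := [128]
noncomputable def nK : List (List ℕ × ℕ) := [([],0),
  ([],128),
  ([132,129,130,132,128,141,139,143,140,139,146,145],128),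
  ([131,137,131,134,136,130,138,138,138,143,140,146,149],128),
  ([130,136,128,128,139,140,143,140,139,146,148,146,145],128),
  ([137,137,130,137,133,128,139,139,139,139,142,146,148,146],128),
  ([130,128,137,138,142,142,141,139,149,146,144],128)]
noncomputable def rT : List (List ℕ × ℕ) := [([0,1,0,1,0,1,0,1],181800),
  ([0,1,0,1,0,1,0,1],182940),
  ([0,0,0,0,0,1,0,0,1,0,0,0,0,0,1,0,0,1,0,0,0,0,0,1,0,0,1,0,0,0,0,0,1,0,0,1],369080),
  ([0,0,0,0,1,0,0,0,1,0,0,0,0,1,0,0,0,1,0,0,0,0,1,0,0,0,1,0,0,0,0,1,0,0,0,1,0,0,0,0,1,0,0,0,1],301720)]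
noncomputable def uu : List (List ℕ) := [[],
  [128],
  [128,128],
  [128,128,128],
  [128,130,136,132,130,143,139,143,139,145,149,144],
  [129],
  [129,129],
  [129,129,129],
  [130,135,136,130,132,129,138,143,141,142,145,148,144],
  [130,136,132,130,143,139,143,139,145,149,144],
  [131,137,130,129,132,141,142,141,143,139,144,148],
  [132,136,133,128,135,141,141,138,140,142,138,148,146,145],
  [132,137,133,131,140,140,140,138,138,138,144,148,147],
  [133,135,133,128,128,138,141,141,138,144,148,147],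
  [134,134,136,131,136,129,142,142,139,142,142,139,148,147,144],
  [134,136,128,137,137,142,139,139,142,146,149,145],
  [134,137,132,134,129,142,140,139,140,143,148,148,147],
  [136,130,132,136,128,142,140,139,141,139,145,146],
  [136,132,131,136,129,140,138,138,143,140,138,145,145],
  [137,130,137,137,130,138,141,138,145,148],
  [137,133,131,135,130,129,139,141,139,143,139,148,144,148,144]]
noncomputable def wT : Tr ℕ := (.node (.node (.node (.node (.leaf wx0) (.leaf wx8)) (.node (.leaf wx4) (.leaf wx12))) (.node (.node (.leaf wx2) (.leaf wx10)) (.node (.leaf wx6) (.leaf wx14)))) (.node (.node (.node (.leaf wx1) (.leaf wx9)) (.node (.leaf wx5) (.leaf wx13))) (.node (.node (.leaf wx3) (.leaf wx11)) (.node (.leaf wx7) (.leaf wx15)))))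
noncomputable def en : Enum := ⟨inv, 8, 255, 3, fun i => force (Nat.shiftRight i 10) fun c => look 0xffffff (wT.get c) (Nat.mul 24 (Nat.land i 1023)), 130, [31200,134340,268780], 1048576⟩
noncomputable def tst : (ℕ → ℕ) → Bool := outTest (appB tabs CG.G25.t49 0xfffff) bs aK rT [(128, 130)] uu
noncomputable def vS : List ℕ := [0,4,39,41]
noncomputable def vQ : List (List ℕ) := [[],
  [41,39,39,0,41,0,4],
  [41,41,41,41,0,4,4,0]]
noncomputable def vR : List (List ℕ) := [[0],
  [4],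
  [39],
  [41]]
noncomputable def vF : List (List ℕ) := [[]]
noncomputable def f1S : List ℕ := [0,1,4,5,39,40,41,42]
noncomputable def f1U : List (List ℕ) := [[],
  [3],
  [6],
  [8],
  [6,3],
  [8,6]]
noncomputable def f1X : List ℕ := [0,20,60,80,120,260]
noncomputable def f1F (x : ℕ) : ℕ := lk2 f1T 0xfffff x
noncomputable def f2S : List ℕ := [67,68,69,70,71,72,73,74]
noncomputable def f2U : List (List ℕ) := [[],
  [3],
  [6],
  [8],
  [8,6],
  [16,6],
  [9,8],
  [16,6,3],
  [8,5,6],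
  [12,5,6],
  [9,8,6]]
noncomputable def f2X : List ℕ := [0,20,60,80,260,400,580,800,1320,1380,1900]
noncomputable def f2F (x : ℕ) : ℕ := lk2 f2T 0xfffff x
noncomputable def f3S : List ℕ := [75,76,77,78,79,80,81,82]
noncomputable def f3U : List (List ℕ) := [[],
  [8],
  [5,6],
  [8,6],
  [5,8],
  [10,8],
  [8,5,6],
  [9,5,6],
  [12,5,6],
  [5,8,6],
  [9,8,6],
  [5,10,6],
  [4,10,6],
  [11,10,6],
  [9,12,6],
  [14,12,6],
  [9,5,6,3],
  [9,8,6,2]]
noncomputable def f3X : List ℕ := [0,80,220,260,480,560,1320,1360,1380,1800,1900,2080,2100,2200,2700,2740,4980,8760]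
noncomputable def f3F (x : ℕ) : ℕ := lk2 f3T 0xfffff x
noncomputable def f4S : List ℕ := [83,84,85,86,87,88,89,90,91]
noncomputable def f4U : List (List ℕ) := [[],
  [3],
  [2],
  [8],
  [8,6],
  [12,6],
  [14,6],
  [16,6],
  [5,8],
  [10,8],
  [9,8],
  [8,6,3],
  [12,6,3],
  [16,6,3],
  [10,8,3],
  [9,8,3],
  [12,6,2],
  [14,6,2],
  [8,5,6],
  [10,5,6],
  [9,5,6],
  [12,5,6],
  [16,5,6],
  [10,8,6],
  [4,10,6],
  [14,12,6],
  [10,7,8],
  [16,5,6,3],
  [14,12,6,2],
  [14,9,5,6]]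
noncomputable def f4X : List ℕ := [0,20,40,80,260,320,360,400,480,560,580,660,720,800,900,920,1060,1100,1320,1340,1360,1380,1460,1880,2100,2740,4120,5080,9640,12400]
noncomputable def f4F (x : ℕ) : ℕ := lk2 f4T 0xfffff x
noncomputable def fxS : List ℕ := [53,55,57,59]
noncomputable def fxU : List (List ℕ) := [[],
  [49],
  [49,49],
  [49,49,49],
  [49,49,49,49]]
noncomputable def fxX : List ℕ := [0,40,160,100,20]
noncomputable def sS : List ℕ := [49,51,53,55,57,59]
noncomputable def q1 : List ℕ := [51,53,55,57,59]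
noncomputable def q2 : List ℕ := [49,53,55,57,59]
noncomputable def g2S : List ℕ := [53,55,57,59]
noncomputable def tS : List ℕ := [55,57,59]
noncomputable def zS : List ℕ := [59]
noncomputable def hS : List ℕ := [49,51,65,8]
noncomputable def k1 : List ℕ := [96,97,98,99,102,103,104,105,106,107,112,113,114,115,116,117,118,119,120,121,122,123,124,125]
noncomputable def k4 : List ℕ := [112,113,114,115,116,117,118,119,120,121,122,123,124,125]
noncomputable def w7 : List ℕ := [8,51,65,49]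
noncomputable def w3 : List ℕ := [66,8,51,8,50,50,66,49,8,52,8,65]
abbrev s1 : ℕ := 49
abbrev i1 : ℕ := 50
abbrev s2 : ℕ := 51
abbrev i2 : ℕ := 52
abbrev s3 : ℕ := 53
abbrev i3 : ℕ := 54
abbrev s4 : ℕ := 55
abbrev i4 : ℕ := 56
abbrev s5 : ℕ := 57
abbrev i5 : ℕ := 58
abbrev s6 : ℕ := 59
abbrev i6 : ℕ := 60
abbrev g1 : ℕ := 65
abbrev j1 : ℕ := 66
abbrev la : ℕ := 128
abbrev lb : ℕ := 130
noncomputable def wA : List (List ℕ) := [[],
  [53],
  [57],
  [59],
  [53,51],
  [55,53],
  [57,55],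
  [59,55],
  [59,57],
  [59,59,59,59,55]]
noncomputable def wB : List (List ℕ) := [[],
  [53],
  [55],
  [57],
  [59],
  [55,53],
  [57,55],
  [59,53],
  [59,55],
  [59,57],
  [53,53,53,53],
  [55,55,55,55],
  [57,57,57,57],
  [59,59,59,59],
  [59,59,59,59,55]]
noncomputable def wC : List (List ℕ) := [[],
  [55],
  [57],
  [59],
  [57,55],
  [59,55],
  [59,57],
  [55,55,55,55],
  [57,57,57,57],
  [59,59,59,59],
  [59,59,59,59,55]]
noncomputable def wD : List (List ℕ) := [[],
  [59],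
  [59,59,59,59]]
noncomputable def wE : List (List ℕ) := [[],
  [59],
  [57,57,57,57],
  [59,59,59,59],
  [59,59,51,57,53],
  [59,55,49,55,55,49,49,49],
  [53,49,49,49,49,53,53,53,49],
  [59,59,57,57,57,55,55,55,55],
  [53,55,55,55,55,53,51,51,51,51],
  [57,57,57,55,55,53,53,53,51,51],
  [57,57,57,51,57,55,53,53,51,51,51]]
noncomputable def wF : List (List ℕ) := [[55],
  [59],
  [55,55],
  [57,57],
  [59,57],
  [59,59],
  [55,55,55],
  [57,57,57],
  [59,55,55],
  [59,57,57],
  [59,59,59],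
  [59,55,55,55],
  [59,57,57,57],
  [59,59,55,55],
  [59,59,57,57],
  [59,59,59,59],
  [59,59,55,55,55],
  [59,59,59,55,55],
  [59,59,59,57,57],
  [59,59,59,59,57],
  [59,59,59,55,55,55],
  [59,59,59,57,57,57],
  [59,59,59,59,55,55],
  [59,59,59,59,55,55,55],
  [59,59,59,59,57,57,57]]

end Cfsg.Agent.SpO.Ly
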